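import Mathlib
import Cfsg.Agent.Lib.PGroup.TwoGroupOddModule
import Cfsg.Agent.Lib.OddConseq.Unconditional
import Cfsg.Agent.Lib.Layer.Radical
import Cfsg.Agent.S4037

/-!
# Coprime linear groups all of whose orbits have two-power length: basic tools
-/

set_option autoImplicit false
set_option linter.style.haveILetI false
set_option linter.unusedSectionVars false

universe u

namespace CfsgLib.QBaer

open CfsgLib.TwoOddModule

variable {V : Type u} [CommGroup V]

/-- The subgroup of `H` fixing `v`. -/
def fixer (H : Subgroup (MulAut V)) (v : V) : Subgroup H where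
  carrier := {h | (h : MulAut V) v = v}
  one_mem' := rfl
  mul_mem' := fun {a b} (ha : (a : MulAut V) v = v) (hb : (b : MulAut V) v = v) => by
    show (a : MulAut V) ((b : MulAut V) v) = v
    rw [hb, ha]
  inv_mem' := fun {a} (ha : (a : MulAut V) v = v) => by
    show (a : MulAut V).symm v = v
    conv_lhs => rw [← ha]
    exact (a : MulAut V).symm_apply_apply v

theorem mem_fixer {H : Subgroup (MulAut V)} {v : V} {h : H} :
    h ∈ fixer H v ↔ (h : MulAut V) v = v := Iff.rfl

/-- All orbits have length a power of two. -/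
def Orbit2 (H : Subgroup (MulAut V)) : Prop := ∀ v, ∃ a : ℕ, (fixer H v).index ∣ 2 ^ a

variable [Finite V]

/-- A Sylow 2-subgroup has the same orbits. -/
theorem exists_sylow_apply {H : Subgroup (MulAut V)} (hor : Orbit2 H) (R : Sylow 2 H) (h : H) (v : V) :
    ∃ r ∈ (R : Subgroup H), (r : MulAut V) v = (h : MulAut V) v := by
  set F := fixer H v with hF
  obtain ⟨a, ha⟩ := hor v
  have hRodd : Nat.Coprime F.index (R : Subgroup H).index :=
    Nat.Coprime.coprime_dvd_left ha
      (Nat.Coprime.pow_left a (Nat.prime_two.coprime_iff_not_dvd.mpr R.not_dvd_index))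
  set n := F.relIndex (R : Subgroup H) with hn
  have h1 : (F ⊓ (R : Subgroup H)).index = n * (R : Subgroup H).index := by
    rw [hn, ← Subgroup.relIndex_mul_index (inf_le_right : F ⊓ (R : Subgroup H) ≤ (R : Subgroup H)),
      Subgroup.inf_relIndex_right]
  have h2 : F.index ∣ n * (R : Subgroup H).index := h1 ▸ Subgroup.index_dvd_of_le inf_le_left
  have hdvd : F.index ∣ n := hRodd.dvd_of_dvd_mul_right h2
  haveI : Finite (MulAut V) := Finite.of_injective (fun f : MulAut V => (f : V → V)) DFunLike.coe_injective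
  have hle : n ≤ F.index := by
    rw [hn, ← F.relIndex_top_right]
    exact Subgroup.relIndex_le_of_le_right le_top
      (by rw [F.relIndex_top_right]; exact Subgroup.index_ne_zero_of_finite)
  have heq : n = F.index := by
    refine le_antisymm hle (Nat.le_of_dvd ?_ hdvd)
    rw [hn, Subgroup.relIndex]
    exact Nat.pos_of_ne_zero Subgroup.index_ne_zero_of_finite
  -- the orbit of the trivial coset is everything
  have hst : MulAction.stabilizer (R : Subgroup H) ((1 : H) : H ⧸ F) = F.subgroupOf (R : Subgroup H) := by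
    ext r
    rw [MulAction.mem_stabilizer_iff, Subgroup.mem_subgroupOf]
    show (((r : H) * 1 : H) : H ⧸ F) = ((1 : H) : H ⧸ F) ↔ _
    rw [mul_one, QuotientGroup.eq]
    simp
  have horb : MulAction.orbit (R : Subgroup H) ((1 : H) : H ⧸ F) = Set.univ := by
    refine Set.eq_of_subset_of_ncard_le (Set.subset_univ _) ?_
    rw [Set.ncard_univ, ← MulAction.index_stabilizer, hst]
    show Nat.card (H ⧸ F) ≤ n
    rw [heq, Subgroup.index]
  obtain ⟨r, hr⟩ : ((h : H) : H ⧸ F) ∈ MulAction.orbit (R : Subgroup H) ((1 : H) : H ⧸ F) := by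
    rw [horb]; trivial
  refine ⟨r, r.2, ?_⟩
  have hr' : (((r : H) * 1 : H) : H ⧸ F) = (h : H ⧸ F) := hr
  rw [mul_one, QuotientGroup.eq, hF, mem_fixer] at hr'
  have := congrArg ((r : H) : MulAut V) hr'
  simpa using this.symm

/-- A set invariant under a Sylow 2-subgroup is invariant under the group. -/
theorem mem_of_sylow_invariant {H : Subgroup (MulAut V)} (hor : Orbit2 H) (R : Sylow 2 H) (X : Set V)
    (hX : ∀ r ∈ (R : Subgroup H), ∀ v ∈ X, (r : MulAut V) v ∈ X) :
    ∀ φ ∈ H, ∀ v ∈ X, φ v ∈ X := by
  intro φ hφ v hv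
  obtain ⟨r, hr, he⟩ := exists_sylow_apply hor R ⟨φ, hφ⟩ v
  rw [show φ v = (r : MulAut V) v from he.symm]
  exact hX r hr v hv

/-- The orbit condition for the group induced on an invariant subgroup. -/
theorem orbit2_restrict {N : Subgroup (MulAut V)} {W : Subgroup V}
    (hW : ∀ φ ∈ N, ∀ w ∈ W, φ w ∈ W) (hor : ∀ w ∈ W, ∃ a : ℕ, (fixer N w).index ∣ 2 ^ a) :
    Orbit2 (restrict N W hW).range := by
  intro w
  obtain ⟨a, ha⟩ := hor w w.2
  refine ⟨a, dvd_trans (dvd_of_eq ?_) ha⟩
  rw [← Subgroup.index_comap_of_surjective _ (restrict N W hW).rangeRestrict_surjective]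
  congr 1
  ext n
  exact Subtype.ext_iff

theorem coprime_range {A B : Type*} [Group A] [Group B] (f : A →* B) {q : ℕ}
    (hA : (Nat.card A).Coprime q) : (Nat.card f.range).Coprime q :=
  hA.coprime_dvd_left (Subgroup.card_range_dvd f)

theorem apply_pow_eq {v w : V} (h : MulAut V) (hv : h v = w * v) (hw : h w = w) (n : ℕ) :
    (h ^ n) v = w ^ n * v := by
  induction n with
  | zero => simp
  | succ k ih => rw [pow_succ', MulAut.mul_apply, ih, map_mul, map_pow, hw, hv, pow_succ, mul_assoc]

/-- An automorphism of order prime to `q` trivial on an invariant subgroup and on the quotient by it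
is trivial. -/
theorem eq_one_of_trivial {q : ℕ} (hexp : ∀ v : V, v ^ q = 1) (h : MulAut V)
    (hcop : (orderOf h).Coprime q) {W : Subgroup V} (h1 : ∀ w ∈ W, h w = w)
    (h2 : ∀ v, h v * v⁻¹ ∈ W) : h = 1 := by
  refine MulEquiv.ext fun v => ?_
  show h v = v
  have h3 := apply_pow_eq h (v := v) (w := h v * v⁻¹) (inv_mul_cancel_right _ _).symm (h1 _ (h2 v)) (orderOf h)
  rw [pow_orderOf_eq_one] at h3
  have h4 : (h v * v⁻¹) ^ orderOf h = 1 := by simpa using h3.symm
  have h5 := pow_gcd_eq_one.mpr ⟨h4, hexp (h v * v⁻¹)⟩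
  rw [hcop.gcd_eq_one, pow_one] at h5
  exact mul_inv_eq_one.mp h5

/-- A cyclic Sylow 2-subgroup gives solvability. -/
theorem isSolvable_of_cyclic_sylow_two {H : Type u} [Group H] [Finite H] (R : Sylow 2 H)
    (hR : IsCyclic R) : Group.IsSolvable H := by
  rcases Nat.even_or_odd (Nat.card H) with he | ho
  · have hmin : (Nat.card H).minFac = 2 := Nat.minFac_eq_two_iff _ |>.mpr he.two_dvd
    have hcompl := IsCyclic.isComplement' hmin hR
    set N := (MonoidHom.transferSylow R (hR.normalizer_le_centralizer hmin)).ker with hN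
    have hi : N.index = Nat.card R := hcompl.symm.index_eq_card
    have hodd : Odd (Nat.card N) := by
      refine Nat.odd_iff.mpr (Nat.two_dvd_ne_zero.mp fun h2 => ?_)
      have hRi := R.card_coprime_index
      have h3 : Nat.card N = (R : Subgroup H).index := hcompl.index_eq_card.symm
      rw [h3] at h2
      exact R.not_dvd_index h2
    haveI : Group.IsSolvable N := CfsgLib.OddConseq.oddSolvable _ hodd
    haveI : Group.IsNilpotent (H ⧸ N) := by
      refine IsPGroup.isNilpotent (p := 2) ?_
      obtain ⟨k, hk⟩ := R.isPGroup'.exists_card_eq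
      exact IsPGroup.of_card (n := k) (by rw [← Subgroup.index_eq_card, hi, ← hk])
    exact Group.isSolvable_of_ker_le_range N.subtype (QuotientGroup.mk' N)
      (by rw [QuotientGroup.ker_mk', Subgroup.range_subtype])
  · exact CfsgLib.OddConseq.oddSolvable _ ho

/-- A normal solvable subgroup with solvable quotient. -/
theorem isSolvable_of_quotient {H : Type*} [Group H] (N : Subgroup H) [N.Normal]
    [Group.IsSolvable N] [Group.IsSolvable (H ⧸ N)] : Group.IsSolvable H :=
  Group.isSolvable_of_ker_le_range N.subtype (QuotientGroup.mk' N)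
    (by rw [QuotientGroup.ker_mk', Subgroup.range_subtype])

/-- An abelian subgroup of two-power index gives solvability. -/
theorem isSolvable_of_abelian_index_two_power {H : Type u} [Group H] [Finite H] (F : Subgroup H)
    (hF : ∀ x ∈ F, ∀ y ∈ F, x * y = y * x) {a : ℕ} (hi : F.index ∣ 2 ^ a) : Group.IsSolvable H := by
  haveI := CfsgLib.Layer.solvableRadical_normal H
  set M := Cfsg.solvableRadical H with hM
  haveI := CfsgLib.Layer.solvableRadical_isSolvable (G := H)
  haveI : Fact (Nat.Prime 2) := ⟨Nat.prime_two⟩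
  have hFM : F ≤ M := by
    intro x hx
    have hle : F ≤ Subgroup.centralizer ({x} : Set H) := fun y hy =>
      Subgroup.mem_centralizer_singleton_iff.mpr (hF y hy x hx)
    obtain ⟨b, -, hb⟩ := (Nat.dvd_prime_pow Nat.prime_two).mp ((Subgroup.index_dvd_of_le hle).trans hi)
    have hcl : (ConjClasses.mk x).carrier.ncard = 2 ^ b := by
      rw [← hb, CfsgLib.Blocks.index_centralizer_eq_card, ← Nat.card_coe_set_eq]
      exact Nat.card_congr (Equiv.subtypeEquivRight fun u => by
        rw [ConjClasses.mem_carrier_iff_mk_eq, ConjClasses.mk_eq_mk_iff_isConj]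
        exact isConj_comm)
    exact CfsgLib.Layer.le_solvableRadical Subgroup.normalClosure_normal
      (Cfsg.Agent.S4037.result x Nat.prime_two b hcl) (Subgroup.subset_normalClosure rfl)
  obtain ⟨b, -, hb⟩ := (Nat.dvd_prime_pow Nat.prime_two).mp ((Subgroup.index_dvd_of_le hFM).trans hi)
  haveI : Group.IsNilpotent (H ⧸ M) :=
    (IsPGroup.of_card (p := 2) (n := b) (by rw [← Subgroup.index_eq_card, hb])).isNilpotent
  exact isSolvable_of_quotient M

end CfsgLib.QBaer
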