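import Mathlib

/-!
# An irreducible cyclic 2-group with an inverting semilinear element forces dimension at most two
-/

set_option autoImplicit false
set_option linter.style.haveILetI false
set_option linter.unusedSectionVars false
set_option maxHeartbeats 400000

open Polynomial

namespace CfsgLib.QBaer

variable {V : Type*} [CommGroup V] [Finite V]

/-- An automorphism as an additive endomorphism. -/
def toEnd (φ : MulAut V) : AddMonoid.End (Additive V) := MonoidHom.toAdditive φ.toMonoidHom

theorem toEnd_apply (φ : MulAut V) (v : V) : toEnd φ (Additive.ofMul v) = Additive.ofMul (φ v) := rfl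

theorem toEnd_mul (φ ψ : MulAut V) : toEnd (φ * ψ) = toEnd φ * toEnd ψ := rfl

theorem toEnd_one : toEnd (1 : MulAut V) = 1 := rfl

theorem toEnd_pow (φ : MulAut V) (n : ℕ) : toEnd (φ ^ n) = toEnd φ ^ n := by
  induction n with
  | zero => rfl
  | succ k ih => rw [pow_succ, pow_succ, toEnd_mul, ih]

theorem toEnd_injective : Function.Injective (toEnd : MulAut V → AddMonoid.End (Additive V)) :=
  fun φ ψ h => MulEquiv.ext fun v => by
    have h1 := DFunLike.congr_fun h (Additive.ofMul v)
    rw [toEnd_apply, toEnd_apply] at h1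
    exact Additive.ofMul.injective h1

/-- Conjugation by an automorphism on additive endomorphisms. -/
def conjEnd (g : MulAut V) : AddMonoid.End (Additive V) →+* AddMonoid.End (Additive V) where
  toFun x := toEnd g * x * toEnd g⁻¹
  map_one' := by rw [mul_one, ← toEnd_mul, mul_inv_cancel, toEnd_one]
  map_mul' x y := by
    have h : toEnd g⁻¹ * toEnd g = (1 : AddMonoid.End (Additive V)) := by
      rw [← toEnd_mul, inv_mul_cancel, toEnd_one]
    calc toEnd g * (x * y) * toEnd g⁻¹ = toEnd g * x * 1 * y * toEnd g⁻¹ := by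
          rw [mul_one, ← mul_assoc (toEnd g) x y]
      _ = _ := by rw [← h]; simp only [mul_assoc]
  map_zero' := by rw [mul_zero, zero_mul]
  map_add' x y := by rw [mul_add, add_mul]

variable {q : ℕ} [hq : Fact q.Prime]

theorem natDegree_X_pow_sub (S : Type*) [CommRing S] [Nontrivial S] {n : ℕ} (hn : 1 < n) :
    (X ^ n - X : S[X]).natDegree = n := by
  have h1 : (X : S[X]).degree < (X ^ n : S[X]).degree := by
    rw [degree_X_pow, degree_X]
    exact mod_cast hn
  rw [natDegree_eq_of_degree_eq (degree_sub_eq_left_of_degree_lt h1), natDegree_X_pow]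

theorem domain_card_le_sq (hq2 : q ≠ 2) {S : Type*} [CommRing S] [IsDomain S] [Finite S] [CharP S q]
    (t : S) (σ : S →+* S) (hext : ∀ φ ψ : S →+* S, φ t = ψ t → ∀ x : S, φ x = ψ x)
    {m r : ℕ} (hm : 2 ≤ m) (hr : r % 4 = 3) (hpow : ∀ i j : ℕ, t ^ i = t ^ j ↔ i ≡ j [MOD 2 ^ m])
    (hσt : σ t = t ^ r) (hσσ : ∀ x : S, σ (σ x) = x) : Nat.card S ≤ q ^ 2 := by
  classical
  haveI : ExpChar S q := ExpChar.prime hq.out
  have hcr : t ^ (r * r) = t ^ 1 := by
    rw [pow_mul, ← hσt, ← map_pow, ← hσt, hσσ, pow_one]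
  -- the fixed field
  set K₀ : Subring S := RingHom.eqLocus σ (RingHom.id S) with hK₀
  haveI : Fintype K₀ := Fintype.ofFinite _
  letI : Field K₀ := Fintype.fieldOfDomain K₀
  haveI : CharP K₀ q := (CharP.charP_iff_prime_eq_zero hq.out).mpr (Subtype.ext (by
    show ((q : K₀) : S) = 0
    rw [show ((q : K₀) : S) = (q : S) from map_natCast K₀.subtype q, CharP.cast_eq_zero]))
  obtain ⟨d, -, hd⟩ := FiniteField.card K₀ q
  set s := q ^ (d : ℕ) with hs
  have hfixs : ∀ x : S, σ x = x → x ^ s = x := by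
    intro x hx
    have := congrArg (fun y : K₀ => (y : S)) (FiniteField.pow_card (⟨x, hx⟩ : K₀))
    rw [hd] at this
    simpa using this
  have hfrob : ∀ x y : S, (x + y) ^ s = x ^ s + y ^ s := fun x y => add_pow_expChar_pow x y q d
  have hsfix : ∀ x : S, x ^ s = x → σ x = x := by
    intro x hx
    by_contra hne
    set P : S[X] := X ^ s - X with hP
    have hs1 : 1 < s := Nat.one_lt_pow d.pos.ne' hq.out.one_lt
    have hdeg : P.natDegree = s := natDegree_X_pow_sub S hs1
    have hP0 : P ≠ 0 := fun h => by rw [h, natDegree_zero] at hdeg; omega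
    let Z : Finset S := insert x (Finset.univ.image fun y : K₀ => (y : S))
    have hZ : Z.card ≤ P.natDegree := by
      refine (Finset.card_le_card (fun y hy => ?_)).trans ((Multiset.toFinset_card_le _).trans P.card_roots')
      rw [Multiset.mem_toFinset, mem_roots hP0, IsRoot.def, hP, eval_sub, eval_pow, eval_X, sub_eq_zero]
      rcases Finset.mem_insert.mp hy with rfl | hy
      · exact hx
      · obtain ⟨z, -, rfl⟩ := Finset.mem_image.mp hy
        exact hfixs _ z.2
    rw [hdeg, Finset.card_insert_of_notMem (by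
      simp only [Finset.mem_image, Finset.mem_univ, true_and, not_exists]
      rintro ⟨z, hz⟩ rfl
      exact hne hz), Finset.card_image_of_injective _ Subtype.val_injective, Finset.card_univ, hd] at hZ
    omega
  -- the generator is moved
  have hrne : σ t ≠ t := by
    rw [hσt]
    intro h
    have h1 : t ^ r = t ^ 1 := by rw [pow_one]; exact h
    rw [hpow] at h1
    have h4 : r ≡ 1 [MOD 4] := h1.of_dvd (by
      calc 4 = 2 ^ 2 := rfl
        _ ∣ 2 ^ m := pow_dvd_pow 2 hm)
    unfold Nat.ModEq at h4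
    omega
  have hts : t ^ s = t ^ r := by
    have hfix1 : (t + σ t) ^ s = t + σ t := hfixs _ (by rw [map_add, hσσ, add_comm])
    have hfix2 : (t * σ t) ^ s = t * σ t := hfixs _ (by rw [map_mul, hσσ, mul_comm])
    rw [hfrob] at hfix1
    rw [mul_pow] at hfix2
    have h0 : (t ^ s - t) * (t ^ s - σ t) = 0 := by
      have : (σ t) ^ s = t + σ t - t ^ s := by rw [← hfix1]; ring
      rw [this] at hfix2
      linear_combination -hfix2
    rcases mul_eq_zero.mp h0 with h | h
    · exact absurd (hsfix t (sub_eq_zero.mp h)) hrne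
    · rw [← hσt]; exact sub_eq_zero.mp h
  have hmod : s ≡ r [MOD 2 ^ m] := (hpow s r).mp hts
  -- the degree
  have hd1 : Odd (d : ℕ) := by
    rw [← Nat.not_even_iff_odd]
    rintro ⟨e, he⟩
    have h4 : s ≡ r [MOD 4] := hmod.of_dvd (by
      calc 4 = 2 ^ 2 := rfl
        _ ∣ 2 ^ m := pow_dvd_pow 2 hm)
    have hq4 : q % 4 = 1 ∨ q % 4 = 3 := by
      have := hq.out.eq_two_or_odd; omega
    have : s % 4 = 1 := by
      rw [hs, he, ← two_mul, pow_mul, Nat.pow_mod, Nat.pow_mod q 2 4]
      rcases hq4 with h | h <;> simp [h]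
    unfold Nat.ModEq at h4
    omega
  have hqq : t ^ (q ^ 2) = t := by
    have hone : (q : ZMod (2 ^ m)) ^ (2 * (d : ℕ)) = 1 := by
      have h1 : s * s ≡ 1 [MOD 2 ^ m] := by
        refine (hmod.mul hmod).trans ?_
        exact (hpow _ _).mp hcr
      have h2 := (ZMod.natCast_eq_natCast_iff' _ _ _).mpr h1
      push_cast [hs] at h2
      rw [two_mul, pow_add]
      exact h2
    have htot : (q : ZMod (2 ^ m)) ^ 2 ^ (m - 1) = 1 := by
      have hcop : q.Coprime (2 ^ m) :=
        Nat.Coprime.pow_right m ((Nat.coprime_primes hq.out Nat.prime_two).mpr hq2)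
      have h1 := Nat.ModEq.pow_totient hcop
      rw [Nat.totient_prime_pow Nat.prime_two (by omega), show (2 : ℕ) - 1 = 1 from rfl, mul_one] at h1
      have h2 := (ZMod.natCast_eq_natCast_iff' _ _ _).mpr h1
      push_cast at h2
      exact h2
    have hg : (q : ZMod (2 ^ m)) ^ 2 = 1 := by
      rw [← orderOf_dvd_iff_pow_eq_one] at hone htot ⊢
      have h := Nat.dvd_gcd hone htot
      obtain ⟨k, hk, hko⟩ := (Nat.dvd_prime_pow Nat.prime_two).mp htot
      rw [hko] at hone ⊢
      have hodd : Nat.Coprime (2 ^ k) (d : ℕ) :=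
        Nat.Coprime.pow_left k (Nat.coprime_two_left.mpr hd1)
      exact hodd.dvd_of_dvd_mul_right hone
    have h3 : q ^ 2 ≡ 1 [MOD 2 ^ m] := by
      have := (ZMod.natCast_eq_natCast_iff' (q ^ 2) 1 (2 ^ m))
      apply this.mp
      push_cast
      exact hg
    conv_rhs => rw [← pow_one t]
    exact (hpow _ _).mpr h3
  have hall : ∀ x : S, x ^ (q ^ 2) = x :=
    hext (iterateFrobenius S q 2) (RingHom.id S) (by rw [iterateFrobenius_def]; exact hqq)
  have hcardS : Nat.card S ≤ q ^ 2 := by
    haveI : Fintype S := Fintype.ofFinite _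
    have hdeg : (X ^ (q ^ 2) - X : S[X]).natDegree = q ^ 2 :=
      natDegree_X_pow_sub S (Nat.one_lt_pow (by norm_num) hq.out.one_lt)
    have hP0 : (X ^ (q ^ 2) - X : S[X]) ≠ 0 := fun h => by
      rw [h, natDegree_zero] at hdeg
      exact (pow_ne_zero 2 hq.out.ne_zero) hdeg.symm
    rw [Nat.card_eq_fintype_card, ← Finset.card_univ]
    conv_rhs => rw [← hdeg]
    refine (Finset.card_le_card (fun y _ => ?_)).trans ((Multiset.toFinset_card_le _).trans (card_roots' _))
    rw [Multiset.mem_toFinset, mem_roots hP0, IsRoot.def, eval_sub, eval_pow, eval_X, hall, sub_self]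
  exact hcardS


/-- The bound on the module. -/
theorem card_le_sq (hq2 : q ≠ 2) (hexp : ∀ v : V, v ^ q = 1) [Nontrivial V] (c g : MulAut V) {m r : ℕ}
    (hm : 2 ≤ m) (hc : orderOf c = 2 ^ m) (hg : g * c * g⁻¹ = c ^ r) (hr : r % 4 = 3)
    (hg2 : (g * g) * c = c * (g * g))
    (hirr : ∀ W : Subgroup V, (∀ w ∈ W, c w ∈ W) → W = ⊥ ∨ W = ⊤) :
    Nat.card V ≤ q ^ 2 := by
  classical
  set T := toEnd c with hT
  set S : Subalgebra ℤ (AddMonoid.End (Additive V)) := (Polynomial.aeval (R := ℤ) T).range with hS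
  have hSmem : ∀ x ∈ S, ∃ f : ℤ[X], aeval T f = x := fun x hx => hx
  have hcommS : ∀ x ∈ S, ∀ y ∈ S, x * y = y * x := by
    intro x hx y hy
    obtain ⟨f, rfl⟩ := hSmem x hx
    obtain ⟨h, rfl⟩ := hSmem y hy
    rw [← map_mul, mul_comm, map_mul]
  have hTS : T ∈ S := ⟨X, aeval_X T⟩
  letI : CommRing S :=
    { (inferInstance : Ring S) with mul_comm := fun x y => Subtype.ext (hcommS x x.2 y y.2) }
  haveI : Finite (AddMonoid.End (Additive V)) :=
    Finite.of_injective (fun f : AddMonoid.End (Additive V) => (f : Additive V → Additive V))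
      DFunLike.coe_injective
  -- invariant subgroups
  have hSc : ∀ x ∈ S, ∀ v : V,
      x (Additive.ofMul (c v)) = Additive.ofMul (c (Additive.toMul (x (Additive.ofMul v)))) := by
    intro x hx v
    exact DFunLike.congr_fun (hcommS x hx T hTS) (Additive.ofMul v)
  have hker : ∀ x ∈ S, x ≠ 0 → ∀ v : Additive V, x v = 0 → v = 0 := by
    intro x hx hx0
    let W : Subgroup V :=
      { carrier := {v | x (Additive.ofMul v) = 0}
        one_mem' := map_zero x
        mul_mem' := fun {a b} (ha : x _ = 0) (hb : x _ = 0) => by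
          show x (Additive.ofMul a + Additive.ofMul b) = 0
          rw [map_add, ha, hb, add_zero]
        inv_mem' := fun {a} (ha : x _ = 0) => by
          show x (-Additive.ofMul a) = 0
          rw [map_neg, ha, neg_zero] }
    rcases hirr W (fun w (hw : x _ = 0) => by
      show x (Additive.ofMul (c w)) = 0
      rw [hSc x hx w, hw, toMul_zero, map_one]
      rfl) with h | h
    · intro v hv
      have : Additive.toMul v ∈ W := hv
      rw [h, Subgroup.mem_bot] at this
      exact Additive.toMul.injective this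
    · refine absurd (DFunLike.ext _ _ fun v => ?_) hx0
      have : Additive.toMul v ∈ W := h ▸ Subgroup.mem_top _
      exact this
  obtain ⟨v₀, hv₀⟩ := exists_ne (1 : V)
  have hv₀' : Additive.ofMul v₀ ≠ 0 := fun h => hv₀ (Additive.ofMul.injective h)
  haveI : Nontrivial S := ⟨⟨1, 0, fun h => hv₀' (by
    have := DFunLike.congr_fun (congrArg Subtype.val h) (Additive.ofMul v₀)
    simpa using this)⟩⟩
  haveI : NoZeroDivisors S := ⟨fun {x y} h => by
    by_contra hne
    push Not at hne
    obtain ⟨hx, hy⟩ := hne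
    refine hv₀' (hker y y.2 (fun e => hy (Subtype.ext e)) _ (hker x x.2 (fun e => hx (Subtype.ext e)) _ ?_))
    exact DFunLike.congr_fun (congrArg Subtype.val h) (Additive.ofMul v₀)⟩
  haveI : IsDomain S := NoZeroDivisors.to_isDomain S
  -- evaluation is onto
  have hsurj : Function.Surjective fun x : S => Additive.toMul ((x : AddMonoid.End (Additive V)) (Additive.ofMul v₀)) := by
    let W : Subgroup V :=
      { carrier := {v | ∃ x : S, (x : AddMonoid.End (Additive V)) (Additive.ofMul v₀) = Additive.ofMul v}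
        one_mem' := ⟨0, rfl⟩
        mul_mem' := by
          rintro a b ⟨x, hx⟩ ⟨y, hy⟩
          refine ⟨x + y, ?_⟩
          show (x : AddMonoid.End (Additive V)) _ + (y : AddMonoid.End (Additive V)) _ = _
          rw [hx, hy]; rfl
        inv_mem' := by
          rintro a ⟨x, hx⟩
          refine ⟨-x, ?_⟩
          show -((x : AddMonoid.End (Additive V)) _) = _
          rw [hx]; rfl }
    rcases hirr W (fun w ⟨x, hx⟩ => by
      refine ⟨⟨T, hTS⟩ * x, ?_⟩
      show T ((x : AddMonoid.End (Additive V)) _) = _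
      rw [hx]; rfl) with h | h
    · exfalso
      have : v₀ ∈ W := ⟨1, rfl⟩
      rw [h, Subgroup.mem_bot] at this
      exact hv₀ this
    · intro v
      obtain ⟨x, hx⟩ : v ∈ W := h ▸ Subgroup.mem_top v
      exact ⟨x, by show Additive.toMul _ = v; rw [hx]; rfl⟩
  -- characteristic
  haveI : CharP S q := by
    refine (CharP.charP_iff_prime_eq_zero hq.out).mpr (Subtype.ext (DFunLike.ext _ _ fun v => ?_))
    show ((q : S) : AddMonoid.End (Additive V)) v = 0
    rw [show ((q : S) : AddMonoid.End (Additive V)) = (q : AddMonoid.End (Additive V)) from map_natCast S.val q,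
      AddMonoid.End.natCast_apply]
    exact Additive.toMul.injective (by simpa using hexp (Additive.toMul v))
  haveI : ExpChar S q := ExpChar.prime hq.out
  -- powers of the generator
  set t : S := ⟨T, hTS⟩ with ht
  have hpow : ∀ i j : ℕ, t ^ i = t ^ j ↔ c ^ i = c ^ j := by
    intro i j
    rw [Subtype.ext_iff, SubmonoidClass.coe_pow, SubmonoidClass.coe_pow]
    show T ^ i = T ^ j ↔ _
    rw [hT, ← toEnd_pow, ← toEnd_pow, toEnd_injective.eq_iff]
  have hext : ∀ (φ ψ : S →+* S), φ t = ψ t → ∀ x : S, φ x = ψ x := by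
    intro φ ψ h x
    obtain ⟨f, hf⟩ := hSmem x x.2
    have hx : x = aeval t f := by
      refine Subtype.ext ?_
      rw [← Subalgebra.coe_val, ← aeval_algHom_apply]
      exact hf.symm
    rw [hx]
    show φ.toIntAlgHom (aeval t f) = ψ.toIntAlgHom (aeval t f)
    rw [← aeval_algHom_apply, ← aeval_algHom_apply]
    show aeval (φ t) f = aeval (ψ t) f
    rw [h]
  -- the semilinear map
  have hgT : conjEnd g T = T ^ r := by
    show toEnd g * T * toEnd g⁻¹ = _
    rw [hT, ← toEnd_mul, ← toEnd_mul, hg, toEnd_pow]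
  have hgS : ∀ x ∈ S, conjEnd g x ∈ S := by
    intro x hx
    obtain ⟨f, rfl⟩ := hSmem x hx
    show (conjEnd g).toIntAlgHom (aeval T f) ∈ S
    rw [← aeval_algHom_apply]
    show aeval (conjEnd g T) f ∈ S
    rw [hgT]
    exact ⟨f.comp (X ^ r), by show aeval T (f.comp (X ^ r)) = _; rw [aeval_comp, map_pow, aeval_X]⟩
  let σ : S →+* S :=
    { toFun := fun x => ⟨conjEnd g x, hgS x x.2⟩
      map_one' := Subtype.ext (map_one (conjEnd g))
      map_mul' := fun x y => Subtype.ext (map_mul (conjEnd g) x.1 y.1)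
      map_zero' := Subtype.ext (map_zero (conjEnd g))
      map_add' := fun x y => Subtype.ext (map_add (conjEnd g) x.1 y.1) }
  have hσt : σ t = t ^ r := Subtype.ext (by rw [SubmonoidClass.coe_pow]; exact hgT)
  have hgr : (g * g) * c * (g * g)⁻¹ = c ^ (r * r) := by
    calc g * g * c * (g * g)⁻¹ = g * (g * c * g⁻¹) * g⁻¹ := by group
      _ = g * c ^ r * g⁻¹ := by rw [hg]
      _ = (g * c * g⁻¹) ^ r := (conj_pow).symm
      _ = c ^ (r * r) := by rw [hg, ← pow_mul]
  have hcr : c ^ (r * r) = c ^ 1 := by rw [← hgr, hg2, mul_inv_cancel_right, pow_one]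
  have hσσ : ∀ x : S, σ (σ x) = x := by
    refine hext (σ.comp σ) (RingHom.id S) ?_
    show σ (σ t) = t
    rw [hσt, map_pow, hσt, ← pow_mul, (hpow _ _).mpr hcr, pow_one]
  have key : Nat.card S ≤ q ^ 2 := domain_card_le_sq hq2 t σ hext hm hr
    (fun i j => by rw [hpow, pow_eq_pow_iff_modEq, hc]) hσt hσσ
  exact (Nat.card_le_card_of_surjective _ hsurj).trans key

end CfsgLib.QBaer
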