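import Mathlib
import Cfsg.Agent.Lib.QBaer.Basic
import Cfsg.Agent.Lib.QBaer.CyclicModule

/-!
# A coprime linear group with all orbits of two-power length is solvable
-/

set_option autoImplicit false
set_option linter.style.haveILetI false
set_option linter.unusedSectionVars false

universe u

namespace CfsgLib.QBaer

open CfsgLib.TwoOddModule

variable {q : ℕ} [hq : Fact q.Prime]

/-- The inductive hypothesis. -/
def Below (q : ℕ) (V : Type u) [CommGroup V] : Prop :=
  ∀ (W : Subgroup V), W ≠ ⊤ → ∀ K : Subgroup (MulAut W),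
    (Nat.card K).Coprime q → Orbit2 K → Group.IsSolvable K

variable {V : Type u} [CommGroup V] [Finite V]

theorem solvable_restrict (ih : Below q V) {N : Subgroup (MulAut V)} (hN : (Nat.card N).Coprime q)
    {W : Subgroup V} (hWtop : W ≠ ⊤) (hW : ∀ φ ∈ N, ∀ w ∈ W, φ w ∈ W)
    (hor : ∀ w ∈ W, ∃ a : ℕ, (fixer N w).index ∣ 2 ^ a) :
    Group.IsSolvable (restrict N W hW).range :=
  ih W hWtop _ (coprime_range _ hN) (orbit2_restrict hW hor)

/-- Two pieces permuted by the Sylow 2-subgroup. -/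
theorem solvable_of_pair (ih : Below q V) (H : Subgroup (MulAut V)) (hH : (Nat.card H).Coprime q)
    (hor : Orbit2 H) (R : Sylow 2 H) (U U' : Subgroup V) (hd : U ⊓ U' = ⊥) (hs : U ⊔ U' = ⊤)
    (hU : U ≠ ⊥) (hU' : U' ≠ ⊥)
    (hperm : ∀ r ∈ (R : Subgroup H), ∀ v, v ∈ U ∨ v ∈ U' →
      (r : MulAut V) v ∈ U ∨ (r : MulAut V) v ∈ U') :
    Group.IsSolvable H := by
  classical
  have hX := mem_of_sylow_invariant hor R {v | v ∈ U ∨ v ∈ U'} hperm
  have hside : ∀ (φ : MulAut V), φ ∈ H → ∀ W : Subgroup V, (∀ w ∈ W, w ∈ U ∨ w ∈ U') →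
      W.map φ.toMonoidHom ≤ U ∨ W.map φ.toMonoidHom ≤ U' := by
    intro φ hφ W hW
    by_contra hne
    push Not at hne
    obtain ⟨h1, h2⟩ := hne
    obtain ⟨a, ha, haU⟩ := SetLike.not_le_iff_exists.mp h1
    obtain ⟨b, hb, hbU⟩ := SetLike.not_le_iff_exists.mp h2
    have hin : ∀ x ∈ W.map φ.toMonoidHom, x ∈ U ∨ x ∈ U' := by
      rintro _ ⟨w, hw, rfl⟩
      exact hX φ hφ w (hW w hw)
    have ha' := (hin a ha).resolve_left haU
    have hb' := (hin b hb).resolve_right hbU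
    rcases hin (a * b) (mul_mem ha hb) with h | h
    · exact haU (by simpa using U.mul_mem h (U.inv_mem hb'))
    · exact hbU (by simpa using U'.mul_mem (U'.inv_mem ha') h)
  let f : MulAut V → Subgroup V → Subgroup V := fun φ W => W.map φ.toMonoidHom
  have hfm : ∀ (φ ψ : MulAut V) (W : Subgroup V), f (φ * ψ) W = f φ (f ψ W) := fun φ ψ W => by
    show W.map (φ * ψ).toMonoidHom = (W.map ψ.toMonoidHom).map φ.toMonoidHom
    rw [Subgroup.map_map]; rfl
  have hcard : ∀ (φ : MulAut V) (W : Subgroup V), Nat.card (f φ W) = Nat.card W := fun φ W =>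
    Subgroup.card_map_of_injective φ.injective
  have hftop : ∀ φ : MulAut V, f φ ⊤ = ⊤ := fun φ => Subgroup.map_top_of_surjective _ φ.surjective
  have hne : ∀ W W' : Subgroup V, W ⊓ W' = ⊥ → W' ≠ ⊥ → W ≠ ⊤ := fun W W' h h' e => h' (by
    rw [e, top_inf_eq] at h; exact h)
  have hUtop : U ≠ ⊤ := hne U U' hd hU'
  have hU'top : U' ≠ ⊤ := hne U' U (by rw [inf_comm]; exact hd) hU
  have hcase : ∀ φ ∈ H, (f φ U = U ∧ f φ U' = U') ∨ (f φ U = U' ∧ f φ U' = U) := by
    intro φ hφ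
    have hsum : f φ U ⊔ f φ U' = ⊤ := by
      show U.map φ.toMonoidHom ⊔ U'.map φ.toMonoidHom = ⊤
      rw [← Subgroup.map_sup, hs]
      exact hftop φ
    rcases hside φ hφ U (fun w hw => Or.inl hw) with h1 | h1
    · have e1 : f φ U = U := Subgroup.eq_of_le_of_card_ge h1 (hcard φ U).ge
      rcases hside φ hφ U' (fun w hw => Or.inr hw) with h2 | h2
      · exfalso
        exact hUtop (eq_top_iff.mpr (hsum ▸ sup_le h1 h2))
      · exact Or.inl ⟨e1, Subgroup.eq_of_le_of_card_ge h2 (hcard φ U').ge⟩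
    · rcases hside φ hφ U' (fun w hw => Or.inr hw) with h2 | h2
      · have c1 := (hcard φ U).symm.trans_le (Subgroup.card_le_of_le h1)
        have c2 := (hcard φ U').symm.trans_le (Subgroup.card_le_of_le h2)
        exact Or.inr ⟨Subgroup.eq_of_le_of_card_ge h1 (c2.trans (hcard φ U).ge),
          Subgroup.eq_of_le_of_card_ge h2 (c1.trans (hcard φ U').ge)⟩
      · exfalso
        exact hU'top (eq_top_iff.mpr (hsum ▸ sup_le h1 h2))
  have hone : ∀ W : Subgroup V, f 1 W = W := fun W => by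
    show W.map (1 : MulAut V).toMonoidHom = W
    exact Subgroup.map_id W
  let N : Subgroup H :=
    { carrier := {h | f (h : MulAut V) U = U}
      one_mem' := hone U
      mul_mem' := fun {a b} (ha : f (a : MulAut V) U = U) (hb : f (b : MulAut V) U = U) => by
        show f ((a : MulAut V) * b) U = U
        rw [hfm, hb, ha]
      inv_mem' := fun {a} (ha : f (a : MulAut V) U = U) => by
        show f (a : MulAut V)⁻¹ U = U
        conv_lhs => rw [← ha]
        rw [← hfm, inv_mul_cancel, hone] }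
  have hnot : ∀ h : H, h ∉ N → f (h : MulAut V) U = U' ∧ f (h : MulAut V) U' = U := fun h hh =>
    (hcase _ h.2).resolve_left fun e => hh e.1
  have hNU' : ∀ h : H, h ∈ N → f (h : MulAut V) U' = U' := fun h hh => by
    rcases hcase _ h.2 with e | e
    · exact e.2
    · exfalso
      have hh' : f (h : MulAut V) U = U := hh
      rw [hh'] at e
      exact hU (by rw [← e.1, inf_idem] at hd; exact hd)
  have hNn : N.Normal := by
    by_cases htop : N = ⊤
    · rw [htop]; infer_instance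
    · obtain ⟨g, hg⟩ : ∃ g, g ∉ N := by
        by_contra h; push Not at h; exact htop (eq_top_iff.mpr fun x _ => h x)
      refine Subgroup.normal_of_index_eq_two (Subgroup.index_eq_two_iff.mpr ⟨g, fun b => ?_⟩)
      by_cases hb : b ∈ N
      · exact Or.inr ⟨hb, fun h => hg (by simpa using N.mul_mem (N.inv_mem hb) h)⟩
      · refine Or.inl ⟨?_, hb⟩
        show f ((b : MulAut V) * g) U = U
        rw [hfm, (hnot g hg).1, (hnot b hb).2]
  set N' := N.map H.subtype with hN'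
  have hN'H : N' ≤ H := Subgroup.map_subtype_le N
  have hmemN : ∀ φ (hφ : φ ∈ H), φ ∈ N' → f φ U = U ∧ f φ U' = U' := by
    rintro _ hφ ⟨n, hn, rfl⟩
    exact ⟨hn, hNU' n hn⟩
  have hWU : ∀ φ ∈ N', ∀ w ∈ U, φ w ∈ U := fun φ hφ w hw =>
    (hmemN φ (hN'H hφ) hφ).1.le ⟨w, hw, rfl⟩
  have hWU' : ∀ φ ∈ N', ∀ w ∈ U', φ w ∈ U' := fun φ hφ w hw =>
    (hmemN φ (hN'H hφ) hφ).2.le ⟨w, hw, rfl⟩
  have hfix : ∀ w : V, w ≠ 1 → (w ∈ U ∨ w ∈ U') →
      ∀ h : H, (h : MulAut V) w = w → h ∈ N := by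
    intro w hw1 hw h hfx
    by_contra hh
    obtain ⟨e1, e2⟩ := hnot h hh
    refine hw1 ((Subgroup.mem_bot).mp (hd ▸ (⟨?_, ?_⟩ : w ∈ U ∧ w ∈ U')))
    · rcases hw with hw | hw
      · exact hw
      · exact e2 ▸ ⟨w, hw, hfx⟩
    · rcases hw with hw | hw
      · exact e1 ▸ ⟨w, hw, hfx⟩
      · exact hw
  have horN : ∀ w : V, (w ∈ U ∨ w ∈ U') → ∃ a : ℕ, (fixer N' w).index ∣ 2 ^ a := by
    intro w hw
    by_cases hw1 : w = 1
    · refine ⟨0, ?_⟩
      rw [show fixer N' w = ⊤ from eq_top_iff.mpr fun h _ => by rw [mem_fixer, hw1, map_one]]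
      simp
    obtain ⟨a, ha⟩ := hor w
    refine ⟨a, dvd_trans ?_ ha⟩
    let e : N →* N' := (N.equivMapOfInjective H.subtype H.subtype_injective).toMonoidHom
    have he : (fixer N' w).comap e = (fixer H w).subgroupOf N := by
      ext n; exact Iff.rfl
    rw [← Subgroup.index_comap_of_surjective (fixer N' w) (f := e) (MulEquiv.surjective _), he]
    exact Subgroup.relIndex_dvd_index_of_le fun h hh => hfix w hw1 hw h hh
  have hN'c : (Nat.card N').Coprime q :=
    hH.coprime_dvd_left (Subgroup.card_dvd_of_le hN'H)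
  haveI h1 := solvable_restrict ih hN'c hUtop hWU (fun w hw => horN w (Or.inl hw))
  haveI h2 := solvable_restrict ih hN'c hU'top hWU' (fun w hw => horN w (Or.inr hw))
  haveI : Group.IsSolvable N' := by
    refine Group.isSolvable_of_isSolvable_injective
      (f := (restrict N' U hWU).rangeRestrict.prod (restrict N' U' hWU').rangeRestrict) ?_
    rw [injective_iff_map_eq_one]
    intro x hx
    refine Subtype.ext (MulEquiv.ext fun v => ?_)
    obtain ⟨a, ha, b, hb, rfl⟩ := Subgroup.mem_sup.mp (hs ▸ Subgroup.mem_top v : v ∈ U ⊔ U')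
    have e1 := congrArg (fun y => ((y.1 : MulAut U) ⟨a, ha⟩ : U)) hx
    have e2 := congrArg (fun y => ((y.2 : MulAut U') ⟨b, hb⟩ : U')) hx
    have e1' : ((x : MulAut V)) a = a := congrArg Subtype.val e1
    have e2' : ((x : MulAut V)) b = b := congrArg Subtype.val e2
    show (x : MulAut V) (a * b) = a * b
    rw [map_mul, e1', e2']
  haveI : Group.IsSolvable N := Group.isSolvable_of_isSolvable_injective
    (f := (N.equivMapOfInjective H.subtype H.subtype_injective).toMonoidHom) (MulEquiv.injective _)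
  haveI := hNn
  haveI : Group.IsSolvable (H ⧸ N) := by
    by_cases htop : N = ⊤
    · haveI : Subsingleton (H ⧸ N) := by rw [htop]; exact QuotientGroup.subsingleton_quotient_top
      infer_instance
    · obtain ⟨g, hg⟩ : ∃ g, g ∉ N := by
        by_contra h; push Not at h; exact htop (eq_top_iff.mpr fun x _ => h x)
      have hcov : ∀ y : H ⧸ N, y = 1 ∨ y = (g : H ⧸ N) := by
        intro y
        obtain ⟨b, rfl⟩ := QuotientGroup.mk_surjective y
        by_cases hb : b ∈ N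
        · exact Or.inl ((QuotientGroup.eq_one_iff b).mpr hb)
        · refine Or.inr (QuotientGroup.eq.mpr ?_)
          show f ((b : MulAut V)⁻¹ * g) U = U
          rw [hfm, (hnot g hg).1]
          conv_lhs => rw [← (hnot b hb).1]
          rw [← hfm, inv_mul_cancel, hone]
      refine Group.isSolvable_of_comm fun x y => ?_
      rcases hcov x with rfl | rfl <;> rcases hcov y with rfl | rfl <;> simp
  exact isSolvable_of_quotient N

/-- An element swapping an invariant pair of minimal invariant subgroups, or irreducibility. -/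
theorem minimal_dichotomy (c g : MulAut V) (hg : ∀ v, ∃ i : ℕ, g (g v) = (c ^ i) v)
    (hgc : ∃ r : ℕ, c * g = g * c ^ r) [Nontrivial V]
    (hirr : ∀ W : Subgroup V, (∀ w ∈ W, c w ∈ W) → (∀ w ∈ W, g w ∈ W) → W = ⊥ ∨ W = ⊤) :
    (∀ W : Subgroup V, (∀ w ∈ W, c w ∈ W) → W = ⊥ ∨ W = ⊤) ∨
      ∃ U U' : Subgroup V, U ⊓ U' = ⊥ ∧ U ⊔ U' = ⊤ ∧ U ≠ ⊥ ∧ U' ≠ ⊥ ∧
        ∀ v, v ∈ U ∨ v ∈ U' → (c v ∈ U ∨ c v ∈ U') ∧ (g v ∈ U ∨ g v ∈ U') := by
  classical
  by_cases hall : ∀ W : Subgroup V, (∀ w ∈ W, c w ∈ W) → W = ⊥ ∨ W = ⊤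
  · exact Or.inl hall
  push Not at hall
  obtain ⟨W₀, hW₀, hW₀b, hW₀t⟩ := hall
  obtain ⟨W, hW, hWmin⟩ := (Set.toFinite
    {W : Subgroup V | (∀ w ∈ W, c w ∈ W) ∧ W ≠ ⊥ ∧ W ≠ ⊤}).exists_minimal ⟨W₀, hW₀, hW₀b, hW₀t⟩
  obtain ⟨hWc, hWb, hWt⟩ := hW
  have hpow : ∀ (i : ℕ), ∀ w ∈ W, (c ^ i) w ∈ W := by
    intro i
    induction i with
    | zero => exact fun w hw => hw
    | succ k ih => exact fun w hw => by rw [pow_succ', MulAut.mul_apply]; exact hWc _ (ih w hw)
  obtain ⟨r, hr⟩ := hgc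
  set W' := W.map g.toMonoidHom with hW'
  have hgW : ∀ w ∈ W, g w ∈ W' := fun w hw => ⟨w, hw, rfl⟩
  have hgW' : ∀ w ∈ W', g w ∈ W := by
    rintro _ ⟨w, hw, rfl⟩
    obtain ⟨i, hi⟩ := hg w
    show g (g w) ∈ W
    rw [hi]
    exact hpow i w hw
  -- `c` preserves the image
  have hcc : ∀ w ∈ W', c w ∈ W' := by
    rintro _ ⟨u, hu, rfl⟩
    exact ⟨(c ^ r) u, hpow r u hu, (DFunLike.congr_fun hr u).symm⟩
  have hsup : W ⊔ W' = ⊤ := by
    refine (hirr _ (fun w hw => ?_) (fun w hw => ?_)).resolve_left fun h => hWb (le_bot_iff.mp (h ▸ le_sup_left))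
    · obtain ⟨a, ha, b, hb, rfl⟩ := Subgroup.mem_sup.mp hw
      rw [map_mul]
      exact Subgroup.mul_mem_sup (hWc a ha) (hcc b hb)
    · obtain ⟨a, ha, b, hb, rfl⟩ := Subgroup.mem_sup.mp hw
      rw [map_mul, mul_comm]
      exact Subgroup.mul_mem_sup (hgW' b hb) (hgW a ha)
  have hinf : W ⊓ W' = ⊥ := by
    by_contra hne
    have hmin : W ≤ W ⊓ W' := hWmin ⟨fun w hw => ⟨hWc w hw.1, hcc w hw.2⟩, hne,
      fun h => hWt (eq_top_iff.mpr (h ▸ inf_le_left))⟩ inf_le_left
    have he : W' = W := (Subgroup.eq_of_le_of_card_ge (hmin.trans inf_le_right)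
      (Subgroup.card_map_of_injective g.injective).le).symm
    rw [he, sup_idem] at hsup
    exact hWt hsup
  refine Or.inr ⟨W, W', hinf, hsup, hWb, fun h => hWb ?_, fun v hv => ?_⟩
  · exact (Subgroup.map_eq_bot_iff_of_injective W g.injective).mp h
  · rcases hv with hv | hv
    · exact ⟨Or.inl (hWc v hv), Or.inr (hgW v hv)⟩
    · exact ⟨Or.inr (hcc v hv), Or.inl (hgW' v hv)⟩

end CfsgLib.QBaer
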