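import Mathlib
import Cfsg.Agent.Lib.QBaer.OrbitTwo

/-!
# Orbit lengths powers of two force solvability
-/

set_option autoImplicit false
set_option linter.style.haveILetI false
set_option linter.unusedSectionVars false

universe u

namespace CfsgLib.QBaer

open CfsgLib.TwoOddModule

/-- No element outside the cyclic self-centralizing subgroup induces an automorphism congruent to
one modulo four. -/
theorem twist_false {G : Type*} [Group G] [Finite G] (c z x : G) {m : ℕ} (hm : 2 ≤ m)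
    (hc : orderOf c = 2 ^ m) (hz : z = c ^ ((2 : ℤ) ^ (m - 1)))
    (hcomm : ∀ a b : G, a * b * a⁻¹ * b⁻¹ ∈ Subgroup.zpowers c)
    (hself : ∀ y : G, y * c = c * y → y ∈ Subgroup.zpowers c)
    (hex : ¬ ∃ e : G, e * e = 1 ∧ e ≠ 1 ∧ e ≠ z ∧ ∀ g, g * e * g⁻¹ = e ∨ g * e * g⁻¹ = z * e)
    (hx : x ∉ Subgroup.zpowers c) (hx2 : x * x ∈ Subgroup.zpowers c) {r : ℕ}
    (hr : x * c * x⁻¹ = c ^ r) (hr4 : r % 4 = 1) : False := by
  have hord : ∀ i : ℤ, c ^ i = 1 ↔ (2 : ℤ) ^ m ∣ i := fun i => by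
    rw [← orderOf_dvd_iff_zpow_eq_one, hc]; norm_num
  obtain ⟨j, hj⟩ := hx2
  simp only at hj
  have hpow : ∀ i : ℤ, x * c ^ i * x⁻¹ = c ^ ((r : ℤ) * i) := fun i => by
    rw [← conj_zpow, hr, ← zpow_natCast, ← zpow_mul]
  have hxx : x * (x * c * x⁻¹) * x⁻¹ = c := by
    rw [show x * (x * c * x⁻¹) * x⁻¹ = (x * x) * c * (x * x)⁻¹ by group, ← hj,
      (Commute.zpow_self c j).eq, mul_inv_cancel_right]
  have hrr : (2 : ℤ) ^ m ∣ ((r : ℤ) * r - 1) := by
    rw [← hord, zpow_sub, zpow_one, mul_inv_eq_one, ← hpow, zpow_natCast, ← hr, hxx]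
  have hrne : ¬ (2 : ℤ) ^ m ∣ ((r : ℤ) - 1) := by
    rw [← hord, zpow_sub, zpow_one, mul_inv_eq_one]
    intro h
    rw [zpow_natCast, ← hr, mul_inv_eq_iff_eq_mul] at h
    exact hx (hself x h)
  obtain ⟨k, hk⟩ : ∃ k : ℕ, r = 4 * k + 1 := ⟨r / 4, by omega⟩
  -- `r - 1` is half the order
  have hhalf : (2 : ℤ) ^ (m - 1) ∣ (r : ℤ) - 1 := by
    have h2 : (2 : ℤ) ^ m = 2 ^ (m - 1) * 2 := by rw [← pow_succ]; congr 1; omega
    have he : (r : ℤ) * r - 1 = ((r : ℤ) - 1) * (2 * k + 1) * 2 := by rw [hk]; push_cast; ring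
    rw [he, h2] at hrr
    have h3 := Int.dvd_of_mul_dvd_mul_right (by norm_num) hrr
    refine IsCoprime.dvd_of_dvd_mul_right (IsCoprime.pow_left ⟨-(k : ℤ), 1, by ring⟩) h3
  obtain ⟨u, hu⟩ := hhalf
  have huodd : Odd u := by
    rw [← Int.not_even_iff_odd]
    rintro ⟨w, rfl⟩
    refine hrne ⟨w, ?_⟩
    rw [hu, show (2 : ℤ) ^ m = 2 ^ (m - 1) * 2 by rw [← pow_succ]; congr 1; omega]
    ring
  have hm3 : 3 ≤ m := by
    by_contra hlt
    have hm2 : m = 2 := by omega
    subst hm2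
    refine hrne ⟨k, ?_⟩
    rw [hk]; push_cast; ring
  have hz2 : z * z = 1 := by
    rw [hz, ← zpow_add, hord]
    exact ⟨1, by rw [mul_one, ← two_mul, ← pow_succ']; congr 1; omega⟩
  -- conjugation by `x` multiplies `c ^ i` by `z ^ i`
  have hconj : ∀ i : ℤ, x * c ^ i * x⁻¹ = c ^ (i + 2 ^ (m - 1) * i) := fun i => by
    rw [hpow, ← mul_inv_eq_one, ← zpow_neg, ← zpow_add, hord]
    obtain ⟨w, hw⟩ := huodd
    refine ⟨w * i, ?_⟩
    rw [show (r : ℤ) = 1 + 2 ^ (m - 1) * u by rw [← hu]; ring, hw]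
    rw [show (2 : ℤ) ^ m = 2 * 2 ^ (m - 1) by rw [← pow_succ']; congr 1; omega]
    ring
  have hjeven : Even j := by
    have h1 := hconj j
    rw [hj, show x * (x * x) * x⁻¹ = x * x by group, ← hj] at h1
    have h2 : c ^ ((2 : ℤ) ^ (m - 1) * j) = 1 := by
      rw [zpow_add] at h1
      exact mul_eq_left.mp h1.symm
    obtain ⟨w, hw⟩ := (hord _).mp h2
    rw [show (2 : ℤ) ^ m = 2 ^ (m - 1) * 2 by rw [← pow_succ]; congr 1; omega, mul_assoc] at hw
    exact ⟨w, by rw [mul_left_cancel₀ (pow_ne_zero _ two_ne_zero) hw, two_mul]⟩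
  obtain ⟨i₀, hi₀⟩ := hjeven
  -- the involution
  have hsq : ∀ i : ℤ, x * c ^ i * (x * c ^ i) = c ^ (i + 2 ^ (m - 1) * i + (j + i)) := fun i => by
    rw [zpow_add _ _ (j + i), ← hconj, zpow_add, hj]; group
  obtain ⟨i, hi⟩ : ∃ i : ℤ, x * c ^ i * (x * c ^ i) = 1 := by
    rcases Int.even_or_odd i₀ with ⟨w, hw⟩ | ⟨w, hw⟩
    · refine ⟨-i₀, ?_⟩
      rw [hsq, hord, hi₀, hw, show (2 : ℤ) ^ m = 2 ^ (m - 1) * 2 by rw [← pow_succ]; congr 1; omega]
      exact ⟨-w, by ring⟩
    · refine ⟨-i₀ + 2 ^ (m - 2), ?_⟩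
      rw [hsq, hord, hi₀, hw, show (2 : ℤ) ^ (m - 1) = 2 ^ (m - 2) * 2 by rw [← pow_succ]; congr 1; omega,
        show (2 : ℤ) ^ m = 2 ^ (m - 2) * 4 by
          rw [show (4 : ℤ) = 2 ^ 2 by norm_num, ← pow_add]; congr 1; omega]
      obtain ⟨v, hv⟩ : ∃ v : ℤ, (2 : ℤ) ^ (m - 2) = 2 * v :=
        ⟨2 ^ (m - 3), by rw [← pow_succ']; congr 1; omega⟩
      exact ⟨-w + v, by rw [hv]; ring⟩
  set e := x * c ^ i with he
  have heA : e ∉ Subgroup.zpowers c := fun h => hx (by
    simpa [he] using (Subgroup.zpowers c).mul_mem h ((Subgroup.zpowers c).inv_mem (Subgroup.zpow_mem_zpowers c i)))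
  have hzA : z ∈ Subgroup.zpowers c := hz ▸ Subgroup.zpow_mem_zpowers c _
  refine hex ⟨e, hi, fun h => heA (h ▸ one_mem _), fun h => heA (h ▸ hzA), fun g => ?_⟩
  obtain ⟨k', hk'⟩ := hcomm g e
  simp only at hk'
  have hge : g * e * g⁻¹ = c ^ k' * e := by rw [hk']; group
  have hsq' : c ^ k' * e * (c ^ k' * e) = 1 := by
    rw [← hge, show g * e * g⁻¹ * (g * e * g⁻¹) = g * (e * e) * g⁻¹ by group, hi]; group
  have he' : e * c ^ k' = c ^ (k' + 2 ^ (m - 1) * k') * e := by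
    rw [← hconj, he]
    have hci : c ^ i * c ^ k' = c ^ k' * c ^ i := by rw [← zpow_add, ← zpow_add, add_comm]
    calc x * c ^ i * c ^ k' = x * (c ^ i * c ^ k') := mul_assoc _ _ _
      _ = x * (c ^ k' * c ^ i) := by rw [hci]
      _ = x * c ^ k' * x⁻¹ * (x * c ^ i) := by group
  have h1 : c ^ (k' + (k' + 2 ^ (m - 1) * k')) = 1 := by
    rw [← hsq', zpow_add, show c ^ k' * e * (c ^ k' * e) = c ^ k' * (e * c ^ k') * e by group, he',
      mul_assoc, mul_assoc (c ^ (k' + 2 ^ (m - 1) * k')), hi, mul_one]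
  rw [hge]
  obtain ⟨w, hw⟩ := (hord _).mp h1
  rcases Int.even_or_odd k' with ⟨v, hv⟩ | ⟨v, hv⟩
  · -- even exponent
    have h2 : c ^ k' * c ^ k' = 1 := by
      rw [← zpow_add, hord]
      refine ⟨w - v, ?_⟩
      rw [show (2 : ℤ) ^ m = 2 ^ (m - 1) * 2 by rw [← pow_succ]; congr 1; omega] at hw ⊢
      rw [hv] at hw ⊢
      linear_combination hw
    rw [← zpow_add, hord, show (2 : ℤ) ^ m = 2 ^ (m - 1) * 2 by rw [← pow_succ]; congr 1; omega] at h2
    obtain ⟨s, hs⟩ := h2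
    have hks : k' = 2 ^ (m - 1) * s := by linarith
    rcases Int.even_or_odd s with ⟨t, ht⟩ | ⟨t, ht⟩
    · left
      rw [show c ^ k' = 1 from (hord _).mpr ⟨t, by
        rw [hks, ht, show (2 : ℤ) ^ m = 2 ^ (m - 1) * 2 by rw [← pow_succ]; congr 1; omega]; ring⟩, one_mul]
    · right
      rw [hz]
      congr 1
      rw [← mul_inv_eq_one, ← zpow_neg, ← zpow_add, hord]
      exact ⟨t, by rw [hks, ht, show (2 : ℤ) ^ m = 2 ^ (m - 1) * 2 by rw [← pow_succ]; congr 1; omega]; ring⟩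
  · exfalso
    obtain ⟨v', hv'⟩ : ∃ v' : ℤ, (2 : ℤ) ^ (m - 1) = 4 * v' :=
      ⟨2 ^ (m - 3), by rw [show (4 : ℤ) = 2 ^ 2 by norm_num, ← pow_add]; congr 1; omega⟩
    rw [show (2 : ℤ) ^ m = 2 ^ (m - 1) * 2 by rw [← pow_succ]; congr 1; omega, hv', hv] at hw
    have : (4 : ℤ) ∣ 2 := ⟨2 * v' * w - v' * (2 * v + 1) - v, by linarith⟩
    norm_num at this

variable {q : ℕ} [hq : Fact q.Prime]

/-- Commutativity of automorphism groups of cyclic groups. -/
theorem mulAut_comm {A : Type*} [Group A] [IsCyclic A] (f g : MulAut A) : f * g = g * f := by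
  refine (IsCyclic.mulAutMulEquiv (G := A)).injective ?_
  rw [map_mul, map_mul, mul_comm]

/-- The hom induced on the quotient by an invariant subgroup. -/
def quotAct {V : Type*} [CommGroup V] (H : Subgroup (MulAut V)) (W : Subgroup V)
    (hW : ∀ φ ∈ H, ∀ w ∈ W, φ w ∈ W) : H →* MulAut (V ⧸ W) where
  toFun φ :=
    { toFun := QuotientGroup.map W W (φ : MulAut V).toMonoidHom fun w hw => hW φ φ.2 w hw
      invFun := QuotientGroup.map W W ((φ⁻¹ : H) : MulAut V).toMonoidHom fun w hw => hW _ (φ⁻¹).2 w hw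
      left_inv := fun y => by
        obtain ⟨y, rfl⟩ := QuotientGroup.mk_surjective y
        simp
      right_inv := fun y => by
        obtain ⟨y, rfl⟩ := QuotientGroup.mk_surjective y
        simp
      map_mul' := map_mul _ }
  map_one' := MulEquiv.ext fun y => by
    obtain ⟨y, rfl⟩ := QuotientGroup.mk_surjective y
    rfl
  map_mul' φ ψ := MulEquiv.ext fun y => by
    obtain ⟨y, rfl⟩ := QuotientGroup.mk_surjective y
    rfl

theorem quotAct_apply {V : Type*} [CommGroup V] (H : Subgroup (MulAut V)) (W : Subgroup V)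
    (hW : ∀ φ ∈ H, ∀ w ∈ W, φ w ∈ W) (φ : H) (v : V) :
    quotAct H W hW φ (v : V ⧸ W) = (((φ : MulAut V) v : V) : V ⧸ W) := rfl

theorem commute_of_small {V : Type u} [CommGroup V] [Finite V] (hexp : ∀ v : V, v ^ q = 1)
    (hsmall : Nat.card V ≤ q ^ 2) [Nontrivial V] (H : Subgroup (MulAut V))
    (hcop : (Nat.card H).Coprime q) (hor : Orbit2 H) : Group.IsSolvable H := by
  classical
  obtain ⟨v, hv⟩ := exists_ne (1 : V)
  obtain ⟨a, ha⟩ := hor v
  refine isSolvable_of_abelian_index_two_power (fixer H v) (fun x hx y hy => ?_) ha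
  set F := (fixer H v).map H.subtype with hF
  set W := Subgroup.zpowers v with hW
  have hFW : ∀ φ ∈ F, ∀ w ∈ W, φ w = w := by
    rintro _ ⟨φ, hφ, rfl⟩ _ ⟨k, rfl⟩
    show (φ : MulAut V) (v ^ k) = v ^ k
    rw [map_zpow, (mem_fixer.mp hφ)]
  have hFW' : ∀ φ ∈ F, ∀ w ∈ W, φ w ∈ W := fun φ hφ w hw => by rw [hFW φ hφ w hw]; exact hw
  haveI : IsCyclic (V ⧸ W) := by
    have hord : orderOf v = q := orderOf_eq_prime (hexp v) hv
    have hc := W.card_eq_card_quotient_mul_card_subgroup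
    rw [hW, Nat.card_zpowers, hord] at hc
    have hle : Nat.card (V ⧸ W) ≤ q := by
      refine Nat.le_of_mul_le_mul_right ?_ hq.out.pos
      calc Nat.card (V ⧸ W) * q = Nat.card V := hc.symm
        _ ≤ q ^ 2 := hsmall
        _ = q * q := pow_two q
    obtain ⟨k, hk⟩ := IsPGroup.iff_card.mp (show IsPGroup q (V ⧸ W) from
      (show IsPGroup q V from fun u => ⟨1, by rw [pow_one]; exact hexp u⟩).to_quotient W)
    rcases k with _ | _ | k
    · haveI : Subsingleton (V ⧸ W) := (Nat.card_eq_one_iff_unique.mp (by rw [hk, pow_zero])).1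
      exact isCyclic_of_subsingleton
    · exact isCyclic_of_prime_card (p := q) (by rw [hk, pow_one])
    · exfalso
      rw [hk] at hle
      have : q ^ 1 < q ^ (k + 1 + 1) := Nat.pow_lt_pow_right hq.out.one_lt (by omega)
      rw [pow_one] at this
      omega
  set C : H := x * y * x⁻¹ * y⁻¹ with hC
  have hCF : C ∈ fixer H v := mul_mem (mul_mem (mul_mem hx hy) (inv_mem hx)) (inv_mem hy)
  have hC1 : (C : MulAut V) = 1 := by
    refine eq_one_of_trivial hexp _ (hcop.coprime_dvd_left ?_) (W := W)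
      (hFW _ ⟨C, hCF, rfl⟩) fun u => ?_
    · rw [Subgroup.orderOf_coe]; exact orderOf_dvd_natCard C
    · rw [← QuotientGroup.eq_one_iff, QuotientGroup.mk_mul, QuotientGroup.mk_inv, mul_inv_eq_one]
      let X : F := ⟨(x : MulAut V), x, hx, rfl⟩
      let Y : F := ⟨(y : MulAut V), y, hy, rfl⟩
      have h1 : quotAct F W hFW' (X * Y * X⁻¹ * Y⁻¹) = 1 := by
        rw [map_mul, map_mul, map_mul, map_inv, map_inv, mulAut_comm (quotAct F W hFW' X)]
        group
      exact congrArg (fun f : MulAut (V ⧸ W) => f (u : V ⧸ W)) h1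
  have : C = 1 := Subtype.ext hC1
  exact commutatorElement_eq_one_iff_mul_comm.mp this

/-- A coprime linear group with all orbits of two-power length is solvable. -/
theorem orbit2_solvable (hq2 : q ≠ 2) : ∀ (n : ℕ) (V : Type u) [CommGroup V] [Finite V],
    Nat.card V = n → (∀ v : V, v ^ q = 1) → ∀ H : Subgroup (MulAut V),
      (Nat.card H).Coprime q → Orbit2 H → Group.IsSolvable H := by
  intro n
  induction n using Nat.strong_induction_on with
  | h n IH => ?_
  intro V _ _ hn hexp H hcop hor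
  classical
  haveI : Fact (Nat.Prime 2) := ⟨Nat.prime_two⟩
  haveI : Finite (MulAut V) :=
    Finite.of_injective (fun f : MulAut V => (f : V → V)) DFunLike.coe_injective
  rcases subsingleton_or_nontrivial V with hV | hV
  · haveI : Subsingleton (MulAut V) := ⟨fun f g => MulEquiv.ext fun v => Subsingleton.elim _ _⟩
    infer_instance
  have ih : Below q V := fun W hW K hK hKo => IH (Nat.card W) (hn ▸ lt_of_le_of_ne
    (Subgroup.card_le_card_group W) fun e => hW (Subgroup.eq_top_of_card_eq W e)) W rfl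
    (fun w => Subtype.ext (by simpa using hexp (w : V))) K hK hKo
  obtain ⟨R⟩ : Nonempty (Sylow 2 H) := inferInstance
  set P := (R : Subgroup H).map H.subtype with hPdef
  have hP : IsPGroup 2 P := R.isPGroup'.map _
  by_cases hred : ∃ W : Subgroup V, (∀ φ ∈ P, ∀ w ∈ W, φ w ∈ W) ∧ W ≠ ⊥ ∧ W ≠ ⊤
  · obtain ⟨W, hWP, hWb, hWt⟩ := hred
    have hWH : ∀ φ ∈ H, ∀ w ∈ W, φ w ∈ W := mem_of_sylow_invariant hor R (W : Set V)
      fun r hr v hv => hWP _ ⟨r, hr, rfl⟩ v hv
    haveI h1 := solvable_restrict ih hcop hWt hWH fun w _ => hor w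
    haveI h2 : Group.IsSolvable (quotAct H W hWH).range := by
      refine IH (Nat.card (V ⧸ W)) ?_ _ rfl (fun y => ?_) _ (coprime_range _ hcop) fun y => ?_
      · rw [← hn, W.card_eq_card_quotient_mul_card_subgroup]
        exact lt_mul_of_one_lt_right Nat.card_pos (W.one_lt_card_iff_ne_bot.mpr hWb)
      · obtain ⟨y, rfl⟩ := QuotientGroup.mk_surjective y
        rw [← QuotientGroup.mk_pow, hexp, QuotientGroup.mk_one]
      · obtain ⟨y, rfl⟩ := QuotientGroup.mk_surjective y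
        obtain ⟨a, ha⟩ := hor y
        refine ⟨a, dvd_trans ?_ ha⟩
        rw [← Subgroup.index_comap_of_surjective _ (quotAct H W hWH).rangeRestrict_surjective]
        refine Subgroup.index_dvd_of_le fun h hh => ?_
        show quotAct H W hWH h (y : V ⧸ W) = y
        rw [quotAct_apply, mem_fixer.mp hh]
    refine Group.isSolvable_of_isSolvable_injective
      (f := (restrict H W hWH).rangeRestrict.prod (quotAct H W hWH).rangeRestrict) ?_
    rw [injective_iff_map_eq_one]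
    intro h hh
    refine Subtype.ext ?_
    refine eq_one_of_trivial hexp _ (hcop.coprime_dvd_left ?_) (W := W) (fun w hw => ?_) fun v => ?_
    · rw [Subgroup.orderOf_coe]; exact orderOf_dvd_natCard h
    · exact congrArg Subtype.val (congrArg (fun y => ((y.1 : MulAut W) ⟨w, hw⟩ : W)) hh)
    · rw [← QuotientGroup.eq_one_iff, QuotientGroup.mk_mul, QuotientGroup.mk_inv, mul_inv_eq_one]
      exact congrArg (fun y => ((y.2 : MulAut (V ⧸ W)) (v : V ⧸ W))) hh
  push Not at hred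
  have hirr : ∀ W : Subgroup V, (∀ φ ∈ P, ∀ w ∈ W, φ w ∈ W) → W = ⊥ ∨ W = ⊤ := fun W hW => by
    by_cases hb : W = ⊥
    · exact Or.inl hb
    · exact Or.inr (hred W hW hb)
  rcases subsingleton_or_nontrivial P with hP1 | hP1
  · refine CfsgLib.OddConseq.oddSolvable _ (Nat.odd_iff.mpr (Nat.two_dvd_ne_zero.mp fun h2 => ?_))
    haveI : Nontrivial P := by
      rw [hPdef, Subgroup.nontrivial_iff_ne_bot, ne_eq,
        Subgroup.map_eq_bot_iff_of_injective _ H.subtype_injective]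
      exact R.ne_bot_of_dvd_card h2
    exact not_subsingleton P hP1
  haveI := hP.center_nontrivial
  obtain ⟨z₀, hz₀⟩ : ∃ z₀ : Subgroup.center P, orderOf z₀ = 2 :=
    exists_prime_orderOf_dvd_card' 2 <| by
      obtain ⟨j, hj0, hj⟩ := (hP.to_subgroup (Subgroup.center P)).nontrivial_iff_card.mp inferInstance
      rw [hj]; exact dvd_pow_self 2 hj0.ne'
  set z : P := (z₀ : P) with hzdef
  have hzc : ∀ g : P, g * z = z * g := fun g => Subgroup.mem_center_iff.mp z₀.2 g
  have hz2 : z * z = 1 := by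
    have := pow_orderOf_eq_one z₀
    rw [hz₀, pow_two] at this
    exact congrArg Subtype.val this
  have hz1 : z ≠ 1 := fun h => by
    rw [show z₀ = 1 from Subtype.ext h, orderOf_one] at hz₀; omega
  have hzinv : ∀ v : V, (z : MulAut V) v = v⁻¹ :=
    eq_inv_of_isIrreducible P hirr z z.2 (fun v => congrArg (fun f : P => (f : MulAut V) v) hz2)
      (fun h => hz1 (Subtype.ext h)) fun φ hφ v =>
        congrArg (fun f : P => (f : MulAut V) v) (hzc ⟨φ, hφ⟩)
  have hmemP : ∀ r ∈ (R : Subgroup H), (r : MulAut V) ∈ P := fun r hr => ⟨r, hr, rfl⟩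
  by_cases hex : ∃ e : P, e * e = 1 ∧ e ≠ 1 ∧ e ≠ z ∧ ∀ g, g * e * g⁻¹ = e ∨ g * e * g⁻¹ = z * e
  · obtain ⟨e, he2, he1, hez, hconj⟩ := hex
    set U := eig (e : MulAut V) false with hU
    set U' := eig (e : MulAut V) true with hU'
    have memU : ∀ v, v ∈ U ↔ (e : MulAut V) v = v := fun v => by simp [hU, eig]
    have memU' : ∀ v, v ∈ U' ↔ (e : MulAut V) v = v⁻¹ := fun v => by simp [hU', eig]
    have hee : ∀ v, (e : MulAut V) ((e : MulAut V) v) = v := fun v =>
      congrArg (fun f : P => (f : MulAut V) v) he2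
    have hdec : ∀ v, ∃ a ∈ U, ∃ b ∈ U', a * b = v := by
      intro v
      obtain ⟨t, ht⟩ := hq.out.odd_of_ne_two hq2
      refine ⟨(v * (e : MulAut V) v) ^ (t + 1), ?_, (v * ((e : MulAut V) v)⁻¹) ^ (t + 1), ?_, ?_⟩
      · rw [memU, map_pow, map_mul, hee, mul_comm]
      · rw [memU', map_pow, map_mul, map_inv, hee, ← inv_pow, mul_inv_rev, inv_inv]
      · rw [← mul_pow, show v * (e : MulAut V) v * (v * ((e : MulAut V) v)⁻¹) = v ^ 2 by
          rw [mul_mul_mul_comm, mul_inv_cancel, mul_one, pow_two], ← pow_mul,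
          show 2 * (t + 1) = q + 1 by omega, pow_succ, hexp, one_mul]
    refine solvable_of_pair ih H hcop hor R U U' ?_ ?_ ?_ ?_ fun r hr v hv => ?_
    · refine le_bot_iff.mp fun v hv => ?_
      obtain ⟨h1, h2⟩ := hv
      have h1' := (memU v).mp h1
      have h2' := (memU' v).mp h2
      rw [h1'] at h2'
      have h3 : v ^ 2 = 1 := by rw [pow_two]; nth_rewrite 1 [h2']; group
      have h4 := pow_gcd_eq_one.mpr ⟨h3, hexp v⟩
      rw [((Nat.coprime_primes Nat.prime_two hq.out).mpr (Ne.symm hq2)).gcd_eq_one, pow_one] at h4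
      exact Subgroup.mem_bot.mpr h4
    · refine eq_top_iff.mpr fun v _ => ?_
      obtain ⟨a, ha, b, hb, rfl⟩ := hdec v
      exact Subgroup.mul_mem_sup ha hb
    · intro h0
      refine hez (Subtype.ext (MulEquiv.ext fun v => ?_))
      obtain ⟨a, ha, b, hb, rfl⟩ := hdec v
      rw [h0, Subgroup.mem_bot] at ha
      rw [hzinv, ha, one_mul]
      exact (memU' b).mp hb
    · intro h0
      refine he1 (Subtype.ext (MulEquiv.ext fun v => ?_))
      obtain ⟨a, ha, b, hb, rfl⟩ := hdec v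
      rw [h0, Subgroup.mem_bot] at hb
      rw [hb, mul_one]
      exact (memU a).mp ha
    · set g : P := ⟨(r : MulAut V), hmemP r hr⟩ with hgdef
      rcases hconj g with h | h
      · have key : ∀ w, (e : MulAut V) ((r : MulAut V) w) = (r : MulAut V) ((e : MulAut V) w) :=
          fun w => (congrArg (fun f : P => (f : MulAut V) w) (mul_inv_eq_iff_eq_mul.mp h)).symm
        rcases hv with hv | hv
        · exact Or.inl ((memU _).mpr (by rw [key, (memU v).mp hv]))
        · exact Or.inr ((memU' _).mpr (by rw [key, (memU' v).mp hv, map_inv]))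
      · have key : ∀ w, (r : MulAut V) ((e : MulAut V) w) = ((e : MulAut V) ((r : MulAut V) w))⁻¹ :=
          fun w => (congrArg (fun f : P => (f : MulAut V) w) (mul_inv_eq_iff_eq_mul.mp h)).trans (hzinv _)
        rcases hv with hv | hv
        · refine Or.inr ((memU' _).mpr ?_)
          have := key v
          rw [(memU v).mp hv] at this
          exact inv_eq_iff_eq_inv.mp this.symm
        · refine Or.inl ((memU _).mpr ?_)
          have := key v
          rw [(memU' v).mp hv, map_inv] at this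
          exact (inv_injective this).symm
  -- the cyclic case
  obtain ⟨A, hAn, hAcyc, hAcent⟩ := exists_cyclic_selfCentralizing hP z hzc hz2 hex
  haveI := hAn
  haveI := hAcyc
  by_cases hAtop : A = ⊤
  · haveI : IsCyclic P := by
      haveI : IsCyclic (⊤ : Subgroup P) := hAtop ▸ hAcyc
      exact isCyclic_of_surjective Subgroup.topEquiv.toMonoidHom Subgroup.topEquiv.surjective
    refine isSolvable_of_cyclic_sylow_two R ?_
    exact isCyclic_of_surjective
      ((R : Subgroup H).equivMapOfInjective H.subtype H.subtype_injective).symm.toMonoidHom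
      (MulEquiv.surjective _)
  obtain ⟨c, hc⟩ : ∃ c : P, Subgroup.zpowers c = A := by
    obtain ⟨g, hg⟩ := A.isCyclic_iff_exists_zpowers_eq_top.mp hAcyc
    exact ⟨g, hg⟩
  obtain ⟨m, hm⟩ := (IsPGroup.iff_orderOf.mp hP) c
  have hself : ∀ y : P, y * c = c * y → y ∈ Subgroup.zpowers c := fun y hy => by
    rw [hc]
    refine hAcent y fun a ha => ?_
    obtain ⟨k, rfl⟩ := (hc ▸ ha : a ∈ Subgroup.zpowers c)
    exact ((show Commute c y from hy.symm).zpow_left k).eq
  have hmem : ∀ a : P, a ∈ Subgroup.zpowers c → ∃ i : ℕ, a = c ^ i := fun a ha => by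
    obtain ⟨i, hi⟩ := mem_powers_iff_mem_zpowers.mpr ha
    exact ⟨i, hi.symm⟩
  have hexr : ∀ y : P, ∃ r : ℕ, y * c * y⁻¹ = c ^ r := fun y =>
    hmem _ (hc ▸ hAn.conj_mem c (hc ▸ Subgroup.mem_zpowers c) y)
  choose ρ hρ using hexr
  have hm2 : 2 ≤ m := by
    by_contra hlt
    refine hAtop (eq_top_iff.mpr fun y _ => hc ▸ hself y ?_)
    have h1 := hρ y
    rcases Nat.le_one_iff_eq_zero_or_eq_one.mp (by omega : m ≤ 1) with rfl | rfl
    · rw [pow_zero, orderOf_eq_one_iff] at hm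
      rw [hm]; simp
    · rw [pow_one] at hm
      have hc2 : c ^ 2 = 1 := hm ▸ pow_orderOf_eq_one c
      rcases Nat.even_or_odd' (ρ y) with ⟨k, hk | hk⟩
      · rw [hk, pow_mul, hc2, one_pow, conj_eq_one_iff] at h1
        rw [h1]; simp
      · rw [hk, pow_succ, pow_mul, hc2, one_pow, one_mul] at h1
        exact mul_inv_eq_iff_eq_mul.mp h1
  have hρmod : ∀ (y : P) (r : ℕ), y * c * y⁻¹ = c ^ r → ρ y % 4 = r % 4 := fun y r hr => by
    have h1 : c ^ ρ y = c ^ r := (hρ y).symm.trans hr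
    rw [pow_eq_pow_iff_modEq, hm] at h1
    exact h1.of_dvd (by
      calc 4 = 2 ^ 2 := rfl
        _ ∣ 2 ^ m := pow_dvd_pow 2 hm2)
  have hρmul : ∀ y w : P, ρ (y * w) % 4 = ρ y * ρ w % 4 := fun y w => by
    refine hρmod _ _ ?_
    calc y * w * c * (y * w)⁻¹ = y * (w * c * w⁻¹) * y⁻¹ := by group
      _ = (y * c * y⁻¹) ^ ρ w := by rw [hρ, conj_pow]
      _ = c ^ (ρ y * ρ w) := by rw [hρ, ← pow_mul]
  have hρodd : ∀ y : P, ρ y % 4 = 1 ∨ ρ y % 4 = 3 := fun y => by
    have h1 := hρmul y y⁻¹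
    rw [mul_inv_cancel] at h1
    have h2 : ρ (1 : P) % 4 = 1 := by rw [hρmod 1 1 (by simp)]
    rw [h2, Nat.mul_mod] at h1
    have : ρ y % 4 < 4 := Nat.mod_lt _ (by norm_num)
    interval_cases hh : ρ y % 4 <;> omega
  have hcommA : ∀ a b : P, a * b * a⁻¹ * b⁻¹ ∈ Subgroup.zpowers c := fun a b => by
    rw [hc]
    refine hAcent _ fun w hw => ?_
    have h1 : (MulAut.conjNormal (a * b * a⁻¹ * b⁻¹) : MulAut A) = 1 := by
      rw [map_mul, map_mul, map_mul, map_inv, map_inv,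
        mulAut_comm (MulAut.conjNormal a : MulAut A)]
      group
    have h2 := congrArg Subtype.val (congrArg (fun f : MulAut A => f ⟨w, hw⟩) h1)
    simp only [MulAut.conjNormal_apply, MulAut.one_apply] at h2
    exact (mul_inv_eq_iff_eq_mul.mp h2).symm
  have hzmem : z ∈ Subgroup.zpowers c := hself z (hzc c).symm
  have hzpow : z = c ^ ((2 : ℤ) ^ (m - 1)) := by
    obtain ⟨i, hi⟩ := hmem z hzmem
    have h1 : c ^ (2 * i) = 1 := by rw [mul_comm, pow_mul, ← hi, pow_two, hz2]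
    rw [← orderOf_dvd_iff_pow_eq_one, hm, show 2 ^ m = 2 * 2 ^ (m - 1) by
      rw [← pow_succ']; congr 1; omega] at h1
    obtain ⟨s, hs⟩ := Nat.dvd_of_mul_dvd_mul_left two_pos h1
    have hcz : c ^ (2 ^ (m - 1)) ^ 1 * c ^ (2 ^ (m - 1)) ^ 1 = 1 := by
      rw [← pow_add, ← orderOf_dvd_iff_pow_eq_one, hm, pow_one, ← two_mul, ← pow_succ']
      exact pow_dvd_pow 2 (by omega)
    rw [pow_one] at hcz
    rw [show ((2 : ℤ) ^ (m - 1)) = ((2 ^ (m - 1) : ℕ) : ℤ) by push_cast; ring, zpow_natCast]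
    rcases Nat.even_or_odd' s with ⟨k, hk | hk⟩
    · exfalso
      refine hz1 ?_
      rw [hi, hs, hk, ← mul_assoc, pow_mul, pow_mul, pow_two, hcz, one_pow]
    · rw [hi, hs, hk, mul_add, mul_one, pow_add, ← mul_assoc, pow_mul, pow_mul, pow_two, hcz,
        one_pow, one_mul]
  have hmod3 : ∀ y : P, y ∉ A → ρ y % 4 = 3 := by
    intro y hy
    refine (hρodd y).resolve_left fun h4 => ?_
    obtain ⟨k, hk⟩ := hP y
    have hex' : ∃ k, y ^ 2 ^ k ∈ A := ⟨k, by rw [hk]; exact one_mem _⟩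
    have h0 : Nat.find hex' ≠ 0 := fun h => hy (by simpa [h] using Nat.find_spec hex')
    have hlast : y ^ 2 ^ (Nat.find hex' - 1) ∉ A := Nat.find_min hex' (by omega)
    have hrpow : ∀ n : ℕ, ρ (y ^ n) % 4 = 1 := by
      intro n
      induction n with
      | zero => rw [pow_zero]; rw [hρmod 1 1 (by simp)]
      | succ j ih => rw [pow_succ, hρmul, Nat.mul_mod, ih, h4]
    refine twist_false c z (y ^ 2 ^ (Nat.find hex' - 1)) hm2 hm hzpow hcommA hself hex
      (hc ▸ hlast) ?_ (hρ _) (hrpow _)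
    rw [hc, ← pow_add, ← two_mul, ← pow_succ', Nat.sub_add_cancel (Nat.pos_of_ne_zero h0)]
    exact Nat.find_spec hex'
  obtain ⟨x, hx⟩ : ∃ x, x ∉ A := by
    by_contra h; push Not at h; exact hAtop (eq_top_iff.mpr fun y _ => h y)
  have hprod : ∀ y : P, y ∉ A → x * y ∈ A := fun y hy => by
    by_contra h
    have h1 := hρmul x y
    rw [hmod3 _ h, Nat.mul_mod, hmod3 x hx, hmod3 y hy] at h1
    norm_num at h1
  obtain ⟨i, hi⟩ := hmem (x * x) (hc ▸ hprod x hx)
  have hxx : x * x * c = c * (x * x) := by rw [hi, ← pow_succ, ← pow_succ']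
  have hcg : c * x = x * c ^ ρ x := by
    rw [← hρ x]
    calc c * x = c * (x * x) * x⁻¹ := by group
      _ = x * x * c * x⁻¹ := by rw [hxx]
      _ = x * (x * c * x⁻¹) := by group
  have hgen : ∀ φ ∈ P, (∃ j : ℕ, φ = ((c ^ j : P) : MulAut V)) ∨
      ∃ j : ℕ, φ = ((x * c ^ j : P) : MulAut V) := by
    intro φ hφ
    by_cases hA : (⟨φ, hφ⟩ : P) ∈ A
    · obtain ⟨j, hj⟩ := hmem _ (hc ▸ hA)
      exact Or.inl ⟨j, congrArg Subtype.val hj⟩
    · have h1 : x * (x * (⟨φ, hφ⟩ : P)) = x * x * ⟨φ, hφ⟩ := (mul_assoc _ _ _).symm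
      have hxi : x⁻¹ * ⟨φ, hφ⟩ ∈ A := by
        have := A.mul_mem (A.inv_mem (hprod x hx)) (hprod _ hA)
        simpa [mul_assoc] using this
      obtain ⟨j, hj⟩ := hmem _ (hc ▸ hxi)
      exact Or.inr ⟨j, congrArg Subtype.val (inv_mul_eq_iff_eq_mul.mp hj)⟩
  have hpowinv : ∀ (W : Subgroup V), (∀ w ∈ W, (c : MulAut V) w ∈ W) → ∀ (j : ℕ), ∀ w ∈ W,
      ((c ^ j : P) : MulAut V) w ∈ W := by
    intro W hW j
    induction j with
    | zero => exact fun w hw => hw
    | succ k ih' =>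
      intro w hw
      rw [pow_succ', Subgroup.coe_mul, MulAut.mul_apply]
      exact hW _ (ih' w hw)
  rcases minimal_dichotomy (c : MulAut V) (x : MulAut V)
      (fun v => ⟨i, by rw [← Subgroup.coe_pow, ← hi]; rfl⟩)
      ⟨ρ x, by rw [← Subgroup.coe_pow, ← Subgroup.coe_mul, ← Subgroup.coe_mul, hcg]⟩
      (fun W hWc hWx => hirr W fun φ hφ w hw => by
        rcases hgen φ hφ with ⟨j, rfl⟩ | ⟨j, rfl⟩
        · exact hpowinv W hWc j w hw
        · rw [Subgroup.coe_mul, MulAut.mul_apply]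
          exact hWx _ (hpowinv W hWc j w hw)) with hcirr | ⟨U, U', hd, hs, hU, hU', hUU⟩
  · refine commute_of_small hexp (card_le_sq hq2 hexp (c : MulAut V) (x : MulAut V) hm2
      (by rw [Subgroup.orderOf_coe, hm]) ?_ (hmod3 x hx) ?_ hcirr) H hcop hor
    · rw [← Subgroup.coe_inv, ← Subgroup.coe_mul, ← Subgroup.coe_mul, hρ, Subgroup.coe_pow]
    · rw [← Subgroup.coe_mul, ← Subgroup.coe_mul, ← Subgroup.coe_mul, hxx]
  · refine solvable_of_pair ih H hcop hor R U U' hd hs hU hU' fun r hr v hv => ?_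
    have hcj : ∀ j : ℕ, ((c ^ j : P) : MulAut V) v ∈ U ∨ ((c ^ j : P) : MulAut V) v ∈ U' := by
      intro j
      induction j with
      | zero => exact hv
      | succ k ih' => rw [pow_succ', Subgroup.coe_mul, MulAut.mul_apply]; exact (hUU _ ih').1
    rcases hgen _ (hmemP r hr) with ⟨j, hj⟩ | ⟨j, hj⟩
    · rw [hj]; exact hcj j
    · rw [hj, Subgroup.coe_mul, MulAut.mul_apply]; exact (hUU _ (hcj j)).2

end CfsgLib.QBaer
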