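import Mathlib
import Cfsg.Agent.Lib.QBaer.Solvable
import Cfsg.Agent.Lib.ClassGraph.Basic

/-!
# Coprime abelian actions with prime power orbit lengths
-/

set_option autoImplicit false
set_option linter.style.haveILetI false
set_option linter.unusedSectionVars false

universe u

namespace CfsgLib.QBaer

open CfsgLib.TwoOddModule

variable {Γ : Type*} [Group Γ] [Finite Γ] {V : Type u} [CommGroup V] [Finite V]

/-- The stabilizer of a point under an action by automorphisms. -/
def stab (φ : Γ →* MulAut V) (v : V) : Subgroup Γ where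
  carrier := {g | φ g v = v}
  one_mem' := by simp
  mul_mem' := fun {a b} (ha : φ a v = v) (hb : φ b v = v) => by
    show φ (a * b) v = v
    rw [map_mul, MulAut.mul_apply, hb, ha]
  inv_mem' := fun {a} (ha : φ a v = v) => by
    show φ a⁻¹ v = v
    conv_lhs => rw [← ha]
    rw [← MulAut.mul_apply, ← map_mul, inv_mul_cancel, map_one, MulAut.one_apply]

theorem mem_stab {φ : Γ →* MulAut V} {v : V} {g : Γ} : g ∈ stab φ v ↔ φ g v = v := Iff.rfl

/-- Products over orbits of coprime lengths. -/
theorem pow_orbit_fixed (φ : Γ →* MulAut V) (x y : V)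
    (h1 : (stab φ x).index.Coprime (stab φ y).index)
    (h2 : (stab φ (x * y)).index.Coprime (stab φ y).index) (g : Γ) :
    φ g (y ^ (stab φ x).index) = y ^ (stab φ x).index := by
  classical
  letI := Fintype.ofFinite Γ
  let O : V → Finset V := fun v => Finset.univ.image fun g : Γ => φ g v
  have hfix : ∀ v, φ g (∏ u ∈ O v, u) = ∏ u ∈ O v, u := by
    intro v
    rw [map_prod, ← Finset.prod_image (f := fun u : V => u) (g := fun u => φ g u)
      (fun a _ b _ h => (φ g).injective h)]
    refine Finset.prod_congr ?_ fun _ _ => rfl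
    ext u
    simp only [O, Finset.mem_image, Finset.mem_univ, true_and]
    constructor
    · rintro ⟨_, ⟨k, rfl⟩, rfl⟩
      exact ⟨g * k, by rw [map_mul, MulAut.mul_apply]⟩
    · rintro ⟨k, rfl⟩
      exact ⟨φ (g⁻¹ * k) v, ⟨_, rfl⟩, by rw [← MulAut.mul_apply, ← map_mul, mul_inv_cancel_left]⟩
  have horb : O (x * y) = (O x).image fun u => u * y := by
    ext u
    simp only [O, Finset.mem_image, Finset.mem_univ, true_and]
    constructor
    · rintro ⟨k, rfl⟩
      obtain ⟨d, hd, c, hc, rfl⟩ := ClassGraph.exists_mul_of_coprime h2.symm k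
      refine ⟨φ d x, ⟨d, rfl⟩, ?_⟩
      rw [map_mul φ d c, MulAut.mul_apply, (mem_stab.mp hc), map_mul (φ d), (mem_stab.mp hd)]
    · rintro ⟨_, ⟨k, rfl⟩, rfl⟩
      obtain ⟨d, hd, c, hc, rfl⟩ := ClassGraph.exists_mul_of_coprime h1.symm k
      refine ⟨d, ?_⟩
      rw [map_mul φ d c, MulAut.mul_apply, (mem_stab.mp hc), map_mul (φ d), (mem_stab.mp hd)]
  have hcard : (O x).card = (stab φ x).index := by
    letI := MulAction.compHom V φ
    rw [show stab φ x = MulAction.stabilizer Γ x from rfl, MulAction.index_stabilizer,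
      ← Set.ncard_coe_finset]
    congr 1
    ext u
    simp only [O, Finset.coe_image, Finset.coe_univ, Set.image_univ]
    rfl
  have key : ∏ u ∈ O (x * y), u = (∏ u ∈ O x, u) * y ^ (stab φ x).index := by
    rw [horb, Finset.prod_image fun a _ b _ h => mul_right_cancel h, Finset.prod_mul_distrib,
      Finset.prod_const, hcard]
  have h := hfix (x * y)
  rw [key, map_mul, hfix x] at h
  exact mul_left_cancel h

variable {q : ℕ} [hq : Fact q.Prime]

theorem fixed_of_fixed_pow (hV : IsPGroup q V) (h : MulAut V) {y : V} {n : ℕ} (hn : n.Coprime q)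
    (hy : h (y ^ n) = y ^ n) : h y = y := by
  obtain ⟨k, hk⟩ := hV (h y * y⁻¹)
  have h1 : (h y * y⁻¹) ^ n = 1 := by rw [mul_pow, inv_pow, ← map_pow, hy, mul_inv_cancel]
  have h2 := pow_gcd_eq_one.mpr ⟨h1, hk⟩
  rw [(hn.pow_right k).gcd_eq_one, pow_one] at h2
  exact mul_inv_eq_one.mp h2

/-- Moved points with prime power orbits all have the same prime. -/
theorem same_prime (φ : Γ →* MulAut V) (hV : IsPGroup q V)
    (hall : ∀ v, ∃ t c : ℕ, t.Prime ∧ (stab φ v).index = t ^ c) {x y : V} {r s a b : ℕ}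
    (hr : r.Prime) (hs : s.Prime) (hrq : r ≠ q) (hsq : s ≠ q)
    (hx : (stab φ x).index = r ^ a) (hy : (stab φ y).index = s ^ b)
    (hxm : ∃ g, φ g x ≠ x) (hym : ∃ g, φ g y ≠ y) : r = s := by
  by_contra hne
  obtain ⟨t, c, ht, hc⟩ := hall (x * y)
  have hrs : (r ^ a).Coprime (s ^ b) := Nat.coprime_pow_primes _ _ hr hs hne
  have hle : stab φ x ⊓ stab φ y ≤ stab φ (x * y) := fun g hg => by
    rw [mem_stab, map_mul, mem_stab.mp hg.1, mem_stab.mp hg.2]
  have hd := Subgroup.index_dvd_of_le hle
  rw [ClassGraph.index_inf_of_coprime (by rw [hx, hy]; exact hrs), hx, hy, hc] at hd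
  rcases eq_or_ne c 0 with rfl | hc0
  · rw [pow_zero, Subgroup.index_eq_one] at hc
    have hz : ∀ g, φ g (x * y) = x * y := fun g => (hc ▸ Subgroup.mem_top g : g ∈ stab φ (x * y))
    have he : stab φ x = stab φ y := by
      ext g
      have := hz g
      rw [map_mul] at this
      rw [mem_stab, mem_stab]
      constructor
      · intro h; rw [h] at this; exact mul_left_cancel this
      · intro h; rw [h] at this; exact mul_right_cancel this
    have e : r ^ a = s ^ b := by rw [← hx, ← hy, he]
    rw [← e, Nat.coprime_self] at hrs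
    obtain ⟨g, hg⟩ := hxm
    have htop : stab φ x = ⊤ := by rw [← Subgroup.index_eq_one, hx, hrs]
    exact hg (htop ▸ Subgroup.mem_top g : g ∈ stab φ x)
  rcases (Nat.Prime.dvd_mul ht).mp ((dvd_pow_self t hc0).trans hd) with h | h
  · have htr : t = r := (Nat.prime_dvd_prime_iff_eq ht hr).mp (ht.dvd_of_dvd_pow h)
    subst htr
    obtain ⟨g, hg⟩ := hym
    refine hg (fixed_of_fixed_pow hV (φ g) (n := (stab φ x).index) ?_ (pow_orbit_fixed φ x y ?_ ?_ g))
    · rw [hx]; exact ((Nat.coprime_primes hr hq.out).mpr hrq).pow_left a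
    · rw [hx, hy]; exact hrs
    · rw [hc, hy]; exact Nat.coprime_pow_primes _ _ hr hs hne
  · have hts : t = s := (Nat.prime_dvd_prime_iff_eq ht hs).mp (ht.dvd_of_dvd_pow h)
    subst hts
    obtain ⟨g, hg⟩ := hxm
    refine hg (fixed_of_fixed_pow hV (φ g) (n := (stab φ y).index) ?_ (pow_orbit_fixed φ y x ?_ ?_ g))
    · rw [hy]; exact ((Nat.coprime_primes hs hq.out).mpr hsq).pow_left b
    · rw [hx, hy]; exact hrs.symm
    · rw [mul_comm y x, hc, hx]; exact (Nat.coprime_pow_primes _ _ hr hs hne).symm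

/-- A coprime automorphism group of an abelian `q`-group with orbit lengths powers of a single
prime is solvable. -/
theorem solvable_of_orbit_prime (hV : IsPGroup q V) (H : Subgroup (MulAut V))
    (hcop : (Nat.card H).Coprime q) {p : ℕ} (hp : p.Prime)
    (hor : ∀ v, ∃ a : ℕ, (fixer H v).index = p ^ a) : Group.IsSolvable H := by
  haveI : Finite (MulAut V) :=
    Finite.of_injective (fun f : MulAut V => (f : V → V)) DFunLike.coe_injective
  by_cases hodd : Odd (Nat.card H)
  · exact CfsgLib.OddConseq.oddSolvable _ hodd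
  rw [Nat.not_odd_iff_even] at hodd
  have hq2 : q ≠ 2 := fun h => by
    rw [h, Nat.coprime_two_right] at hcop
    exact Nat.not_odd_iff_even.mpr hodd hcop
  haveI : Fact (Nat.Prime 2) := ⟨Nat.prime_two⟩
  rcases eq_or_ne p 2 with rfl | hp2
  · -- pass to the elements of order dividing `q`
    let W : Subgroup V := (powMonoidHom q).ker
    have hmem : ∀ v, v ∈ W ↔ v ^ q = 1 := fun v => MonoidHom.mem_ker
    have hW : ∀ φ ∈ H, ∀ w ∈ W, φ w ∈ W := fun φ _ w hw => by
      rw [hmem] at hw ⊢; rw [← map_pow, hw, map_one]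
    haveI : Group.IsSolvable (restrict H W hW).range :=
      orbit2_solvable hq2 _ W rfl (fun w => Subtype.ext ((hmem _).mp w.2)) _ (coprime_range _ hcop)
        (orbit2_restrict hW fun w _ => by obtain ⟨a, ha⟩ := hor w; exact ⟨a, ha.dvd⟩)
    refine Group.isSolvable_of_isSolvable_injective (f := (restrict H W hW).rangeRestrict) ?_
    rw [injective_iff_map_eq_one]
    intro h hh
    have hfix : ∀ w ∈ W, (h : MulAut V) w = w := fun w hw =>
      congrArg Subtype.val (congrArg (fun f : MulAut W => f ⟨w, hw⟩) (congrArg Subtype.val hh))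
    have hall : ∀ k : ℕ, ∀ v : V, v ^ q ^ k = 1 → (h : MulAut V) v = v := by
      intro k
      induction k with
      | zero => intro v hv; rw [pow_zero, pow_one] at hv; rw [hv, map_one]
      | succ j ih =>
        intro v hv
        rw [pow_succ', pow_mul] at hv
        have hw : (h : MulAut V) v * v⁻¹ ∈ W := by
          rw [hmem, mul_pow, inv_pow, ← map_pow, ih _ hv, mul_inv_cancel]
        have h3 := apply_pow_eq (h : MulAut V) (v := v) (w := (h : MulAut V) v * v⁻¹)
          (inv_mul_cancel_right _ _).symm (hfix _ hw) (orderOf (h : MulAut V))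
        rw [pow_orderOf_eq_one] at h3
        have h4 : ((h : MulAut V) v * v⁻¹) ^ orderOf (h : MulAut V) = 1 := by simpa using h3.symm
        have h5 := pow_gcd_eq_one.mpr ⟨h4, (hmem _).mp hw⟩
        have hco : (orderOf (h : MulAut V)).Coprime q := hcop.coprime_dvd_left (by
          rw [Subgroup.orderOf_coe]; exact orderOf_dvd_natCard h)
        rw [hco.gcd_eq_one, pow_one] at h5
        exact mul_inv_eq_one.mp h5
    refine Subtype.ext (MulEquiv.ext fun v => ?_)
    obtain ⟨k, hk⟩ := hV v
    exact hall k v hk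
  -- no involutions otherwise
  exfalso
  obtain ⟨t, ht⟩ := exists_prime_orderOf_dvd_card' (G := H) 2 hodd.two_dvd
  obtain ⟨v, hv⟩ : ∃ v, (t : MulAut V) v ≠ v := by
    by_contra h; push Not at h
    rw [show t = 1 from Subtype.ext (MulEquiv.ext h), orderOf_one] at ht
    omega
  have htt : ∀ u, (t : MulAut V) ((t : MulAut V) u) = u := fun u => by
    have := pow_orderOf_eq_one t
    rw [ht, pow_two] at this
    exact congrArg (fun f : H => (f : MulAut V) u) this
  set w := (t : MulAut V) v * v⁻¹ with hw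
  have hw1 : w ≠ 1 := fun h => hv (mul_inv_eq_one.mp h)
  have hwt : (t : MulAut V) w = w⁻¹ := by
    rw [hw, map_mul, htt, map_inv, mul_inv_rev, inv_inv]
  have hww : w ≠ w⁻¹ := fun h => by
    obtain ⟨k, hk⟩ := hV w
    have h2 : w ^ 2 = 1 := by rw [pow_two]; nth_rewrite 1 [h]; exact inv_mul_cancel w
    have h3 := pow_gcd_eq_one.mpr ⟨h2, hk⟩
    rw [(((Nat.coprime_primes Nat.prime_two hq.out).mpr (Ne.symm hq2)).pow_right k).gcd_eq_one,
      pow_one] at h3
    exact hw1 h3
  let S' : Subgroup H :=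
    { carrier := {h | (h : MulAut V) w = w ∨ (h : MulAut V) w = w⁻¹}
      one_mem' := Or.inl rfl
      mul_mem' := fun {a b} ha hb => by
        simp only [Set.mem_setOf_eq, Subgroup.coe_mul, MulAut.mul_apply] at *
        rcases hb with hb | hb <;> rcases ha with ha | ha <;> simp [hb, ha]
      inv_mem' := fun {a} ha => by
        simp only [Set.mem_setOf_eq] at *
        rcases ha with ha | ha
        · exact Or.inl ((fixer H w).inv_mem (x := a) ha)
        · refine Or.inr ?_
          show (a : MulAut V).symm w = w⁻¹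
          rw [MulEquiv.symm_apply_eq, map_inv, ha, inv_inv] }
  have hle : fixer H w ≤ S' := fun h hh => Or.inl hh
  have h2 : (fixer H w).relIndex S' = 2 := by
    rw [Subgroup.relIndex_eq_two_iff]
    refine ⟨t, Or.inr hwt, fun b hb => ?_⟩
    rw [mem_fixer, mem_fixer, Subgroup.coe_mul, MulAut.mul_apply, hwt, map_inv]
    rcases hb with hb | hb
    · refine Or.inr ⟨hb, ?_⟩
      rw [hb]; exact hww.symm
    · refine Or.inl ⟨by rw [hb, inv_inv], ?_⟩
      rw [hb]; exact hww.symm
  obtain ⟨a, ha⟩ := hor w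
  have h3 : 2 ∣ p ^ a := ha ▸ h2 ▸ Subgroup.relIndex_dvd_index_of_le hle
  exact hp2 ((Nat.prime_dvd_prime_iff_eq Nat.prime_two hp).mp (Nat.prime_two.dvd_of_dvd_pow h3)).symm

end CfsgLib.QBaer
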