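import Mathlib
import Cfsg.Agent.Lib.QBaer.Action
import Cfsg.Agent.Lib.Blocks.Kazarin
import Cfsg.Agent.Lib.Fitting.Basic
import Cfsg.Agent.Lib.Layer.PComponent
import Cfsg.Agent.Lib.Transfer.Basic
import Cfsg.Agent.Lib.TwoClassSizes.Basic

/-!
# Elements of prime power order and prime power class size
-/

set_option autoImplicit false
set_option linter.style.haveILetI false
set_option linter.unusedSectionVars false

universe u

namespace CfsgLib.QBaer

open Cfsg

variable {G : Type u} [Group G] [Finite G] {q : ℕ} [hq : Fact q.Prime]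

theorem index_conj (x g : G) :
    (Subgroup.centralizer ({g * x * g⁻¹} : Set G)).index = (Subgroup.centralizer ({x} : Set G)).index := by
  rw [Blocks.index_centralizer_eq_card, Blocks.index_centralizer_eq_card]
  exact Nat.card_congr (Equiv.subtypeEquivRight fun u =>
    ⟨(isConj_iff.mpr ⟨g, rfl⟩).trans, (isConj_iff.mpr ⟨g, rfl⟩ : IsConj x _).symm.trans⟩)

theorem centralizer_map_index_dvd {H : Type*} [Group H] [Finite H] (f : G →* H)
    (hf : Function.Surjective f) (x : G) :
    (Subgroup.centralizer ({f x} : Set H)).index ∣ (Subgroup.centralizer ({x} : Set G)).index := by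
  refine (Subgroup.index_dvd_of_le ?_).trans
    ((Subgroup.centralizer ({x} : Set G)).index_map_dvd hf)
  rintro _ ⟨c, hc, rfl⟩
  refine Subgroup.mem_centralizer_singleton_iff.mpr ?_
  rw [← map_mul, Subgroup.mem_centralizer_singleton_iff.mp hc, map_mul]

/-- A `q`-element with prime power class size lies in `O_q` modulo the core for that prime. -/
theorem mk_mem_pCore {r a : ℕ} [Fact r.Prime] {x : G} (hx : ∃ k, orderOf x = q ^ k)
    (hr : (Subgroup.centralizer ({x} : Set G)).index = r ^ a) :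
    haveI := Fitting.pCore_normal (G := G) r
    QuotientGroup.mk' (pCore r G) x ∈ pCore q (G ⧸ pCore r G) := by
  haveI := Fitting.pCore_normal (G := G) r
  set π := QuotientGroup.mk' (pCore r G) with hπ
  obtain ⟨A, hA, hmem⟩ := Blocks.Kazarin.exists_abelian_mod_pCore x hr
  obtain ⟨k, hk⟩ := hx
  have key : ∀ u ∈ Subgroup.normalClosure ({π x} : Set (G ⧸ pCore r G)),
      u ∈ A ∧ ∃ j : ℕ, u ^ q ^ j = 1 := by
    intro u hu
    induction hu using Subgroup.closure_induction with
    | mem v hv =>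
      obtain ⟨w, hw, hwv⟩ := Group.mem_conjugatesOfSet_iff.mp hv
      rw [Set.mem_singleton_iff] at hw
      subst hw
      obtain ⟨c, rfl⟩ := isConj_iff.mp hwv
      obtain ⟨g, rfl⟩ := QuotientGroup.mk'_surjective (pCore r G) c
      rw [← hπ, ← map_inv, ← map_mul, ← map_mul]
      refine ⟨hmem g, k, ?_⟩
      rw [← map_pow, conj_pow, ← hk, pow_orderOf_eq_one, mul_one, mul_inv_cancel, map_one]
    | one => exact ⟨one_mem _, 0, one_pow _⟩
    | mul v w _ _ hv hw =>
      obtain ⟨hvA, i, hi⟩ := hv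
      obtain ⟨hwA, j, hj⟩ := hw
      refine ⟨mul_mem hvA hwA, i + j, ?_⟩
      rw [(show Commute v w from hA v hvA w hwA).mul_pow, pow_add, pow_mul, hi, one_pow,
        mul_comm (q ^ i), pow_mul, hj, one_pow, one_mul]
    | inv v _ hv =>
      obtain ⟨hvA, i, hi⟩ := hv
      exact ⟨inv_mem hvA, i, by rw [inv_pow, hi, inv_one]⟩
  refine Fitting.le_pCore (Subgroup.normalClosure_normal (s := {π x})) ?_
    (Subgroup.subset_normalClosure rfl)
  intro u
  obtain ⟨j, hj⟩ := (key u u.2).2
  exact ⟨j, Subtype.ext hj⟩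

/-- Pushing membership in `O_q` modulo a normal subgroup to a further quotient. -/
theorem map_mem_pCore {N : Subgroup G} [N.Normal] {H : Type*} [Group H] (f : G →* H)
    (hf : Function.Surjective f) {x : G} (hx : QuotientGroup.mk' N x ∈ pCore q (G ⧸ N))
    (hN : ∀ u ∈ N, ∃ j : ℕ, (f u) ^ q ^ j = 1) : f x ∈ pCore q H := by
  haveI := Fitting.pCore_normal (G := G ⧸ N) q
  refine Fitting.le_pCore ((inferInstance : ((pCore q (G ⧸ N)).comap (QuotientGroup.mk' N)).Normal).map f hf)
    ?_ ⟨x, hx, rfl⟩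
  rintro ⟨_, u, hu, rfl⟩
  obtain ⟨i, hi⟩ := Fitting.pCore_isPGroup (G := G ⧸ N) q ⟨_, hu⟩
  have h1 : u ^ q ^ i ∈ N := by
    rw [← QuotientGroup.eq_one_iff]
    exact congrArg Subtype.val hi
  obtain ⟨j, hj⟩ := hN _ h1
  refine ⟨i + j, Subtype.ext ?_⟩
  show f u ^ q ^ (i + j) = 1
  rw [pow_add, pow_mul, ← map_pow, hj]

/-- Every `q`-element with prime power class size lies in `O_q` modulo `O_{q'}`. -/
theorem mk_core_mem {r a : ℕ} [Fact r.Prime] {x : G} (hx : ∃ k, orderOf x = q ^ k)
    (hr : (Subgroup.centralizer ({x} : Set G)).index = r ^ a) :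
    haveI := Transfer.pPrimeCore_normal q G
    QuotientGroup.mk' (pPrimeCore q G) x ∈ pCore q (G ⧸ pPrimeCore q G) := by
  haveI := Transfer.pPrimeCore_normal q G
  haveI := Fitting.pCore_normal (G := G) r
  refine map_mem_pCore _ (QuotientGroup.mk'_surjective _) (mk_mem_pCore hx hr) fun u hu => ?_
  obtain ⟨j, hj⟩ := Fitting.pCore_isPGroup (G := G) r ⟨u, hu⟩
  rcases eq_or_ne r q with rfl | hne
  · exact ⟨j, by rw [← map_pow, show u ^ r ^ j = 1 from congrArg Subtype.val hj, map_one]⟩
  · refine ⟨0, ?_⟩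
    obtain ⟨c, hc⟩ := IsPGroup.iff_card.mp (Fitting.pCore_isPGroup (G := G) r)
    have h1 : pCore r G ≤ pPrimeCore q G := Transfer.le_pPrimeCore (Fitting.pCore_normal r) (by
      rw [hc]; exact ((Nat.coprime_primes Fact.out hq.out).mpr hne).pow_left c)
    rw [pow_zero, pow_one]
    exact (QuotientGroup.eq_one_iff u).mpr (h1 hu)

/-- A `q`-element with class size prime to `q` is central in some Sylow subgroup. -/
theorem exists_sylow_central {x : G} (hx : ∃ k, orderOf x = q ^ k)
    (hi : (Subgroup.centralizer ({x} : Set G)).index.Coprime q) :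
    ∃ P : Sylow q G, x ∈ (P : Subgroup G) ∧ ∀ y ∈ (P : Subgroup G), y * x = x * y := by
  obtain ⟨k, hk⟩ := hx
  set C := Subgroup.centralizer ({x} : Set G) with hC
  obtain ⟨P₀⟩ : Nonempty (Sylow q C) := inferInstance
  have hP : IsPGroup q ((P₀ : Subgroup C).map C.subtype) := P₀.isPGroup'.map _
  obtain ⟨P, hle⟩ := hP.exists_le_sylow
  have heq : (P : Subgroup G) = (P₀ : Subgroup C).map C.subtype := by
    refine (Subgroup.eq_of_le_of_card_ge hle ?_).symm
    rw [Subgroup.card_map_of_injective C.subtype_injective, P.card_eq_multiplicity,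
      P₀.card_eq_multiplicity]
    refine Nat.pow_le_pow_right hq.out.pos ?_
    rw [← C.card_mul_index, Nat.factorization_mul Nat.card_pos.ne' Subgroup.index_ne_zero_of_finite,
      Finsupp.add_apply, Nat.factorization_eq_zero_of_not_dvd
        ((Nat.Prime.coprime_iff_not_dvd hq.out).mp hi.symm), add_zero]
  have hcomm : ∀ y ∈ (P : Subgroup G), y * x = x * y := fun y hy => by
    rw [heq] at hy
    obtain ⟨c, -, rfl⟩ := hy
    exact Subgroup.mem_centralizer_singleton_iff.mp c.2
  refine ⟨P, ?_, hcomm⟩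
  have hsup : IsPGroup q ↥(Subgroup.zpowers x ⊔ (P : Subgroup G)) := by
    refine (IsPGroup.of_card (p := q) (n := k) (by rw [Nat.card_zpowers, hk])).to_sup_of_normal_left'
      P.isPGroup' fun y hy => ?_
    refine Subgroup.centralizer_le_normalizer _ (Subgroup.mem_centralizer_iff.mpr fun u hu => ?_)
    obtain ⟨i, rfl⟩ := hu
    exact ((show Commute x y from (hcomm y hy).symm).zpow_left i).eq
  rw [← P.is_maximal' hsup le_sup_right]
  exact Subgroup.mem_sup_left (Subgroup.mem_zpowers x)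

/-- All Sylow subgroups map onto `O_q` when their images lie inside. -/
theorem sylow_map_eq_pCore {H : Type*} [Group H] [Finite H] (f : G →* H)
    (hf : Function.Surjective f) (P : Sylow q G) (hP : ∀ x ∈ (P : Subgroup G), f x ∈ pCore q H) :
    (P : Subgroup G).map f = pCore q H := by
  refine le_antisymm (by rintro _ ⟨x, hx, rfl⟩; exact hP x hx) ?_
  rw [← Subgroup.relIndex_eq_one]
  obtain ⟨m, hm⟩ := IsPGroup.iff_card.mp (Fitting.pCore_isPGroup (G := H) q)
  have h1 : ((P : Subgroup G).map f).relIndex (pCore q H) ∣ q ^ m := hm ▸ Subgroup.relIndex_dvd_card _ _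
  have h2 : ((P : Subgroup G).map f).relIndex (pCore q H) ∣ (P : Subgroup G).index :=
    (Subgroup.relIndex_dvd_index_of_le (by rintro _ ⟨x, hx, rfl⟩; exact hP x hx)).trans
      (Subgroup.index_map_dvd _ hf)
  exact Nat.dvd_one.mp ((((Nat.Prime.coprime_iff_not_dvd hq.out).mpr P.not_dvd_index).pow_left m).gcd_eq_one ▸
    Nat.dvd_gcd h1 h2)

/-- A normal abelian or nonabelian Sylow subgroup contains its centralizer when `O_{q'}` is trivial. -/
theorem centralizer_le (A : Subgroup G) [A.Normal] (hA : IsPGroup q A) (hi : A.index.Coprime q)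
    (hO : pPrimeCore q G = ⊥) : Subgroup.centralizer (A : Set G) ≤ A := by
  set C := Subgroup.centralizer (A : Set G) with hC
  set A' := A.subgroupOf C with hA'
  obtain ⟨m, hm⟩ := IsPGroup.iff_card.mp hA
  have hidx : A'.index.Coprime q := hi.coprime_dvd_left (Subgroup.relIndex_dvd_index_of_normal A C)
  have hA'q : ∃ j, Nat.card A' = q ^ j := by
    have : IsPGroup q A' := hA.comap_subtype
    exact IsPGroup.iff_card.mp this
  obtain ⟨j, hj⟩ := hA'q
  obtain ⟨M, hM⟩ := Subgroup.exists_right_complement'_of_coprime (N := A')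
    (by rw [hj]; exact hidx.symm.pow_left j)
  have hcen : ∀ a ∈ A', ∀ c : C, a * c = c * a := fun a ha c =>
    Subtype.ext (Subgroup.mem_centralizer_iff.mp c.2 _ ha)
  have hMn : (M.map C.subtype).Normal := by
    refine ⟨?_⟩
    rintro _ ⟨n, hn, rfl⟩ g
    have hgC : g * (n : G) * g⁻¹ ∈ C := (inferInstance : C.Normal).conj_mem _ n.2 g
    obtain ⟨⟨⟨a, ha⟩, ⟨c, hc⟩⟩, hac⟩ := hM.2 ⟨_, hgC⟩
    have hk : ∀ u : C, u ∈ M → u ^ Nat.card M = 1 := fun u hu =>
      congrArg Subtype.val (pow_card_eq_one' (x := (⟨u, hu⟩ : M)))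
    have h1 : (⟨_, hgC⟩ : C) ^ Nat.card M = 1 := by
      refine Subtype.ext ?_
      show (g * (n : G) * g⁻¹) ^ Nat.card M = 1
      rw [conj_pow, show (n : G) ^ Nat.card M = 1 from congrArg Subtype.val (hk n hn), mul_one,
        mul_inv_cancel]
    simp only at hac
    rw [← hac, (show Commute a c from hcen a ha c).mul_pow, hk c hc, mul_one] at h1
    have h2 : a ^ q ^ j = 1 := hj ▸ congrArg Subtype.val (pow_card_eq_one' (x := (⟨a, ha⟩ : A')))
    have h3 := pow_gcd_eq_one.mpr ⟨h1, h2⟩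
    rw [← hM.symm.index_eq_card] at h3
    rw [(hidx.pow_right j).gcd_eq_one, pow_one] at h3
    refine ⟨c, hc, ?_⟩
    rw [h3, one_mul] at hac
    exact congrArg Subtype.val hac
  have hbot : M.map C.subtype ≤ ⊥ := hO ▸ Transfer.le_pPrimeCore hMn (by
    rw [Subgroup.card_map_of_injective C.subtype_injective, ← hM.symm.index_eq_card]; exact hidx)
  intro c hc
  obtain ⟨⟨⟨a, ha⟩, ⟨u, hu⟩⟩, hau⟩ := hM.2 ⟨c, hc⟩
  have h1 : (u : G) = 1 := Subgroup.mem_bot.mp (hbot ⟨u, hu, rfl⟩)
  have h2 : (a : G) * (u : G) = c := congrArg Subtype.val hau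
  rw [h1, mul_one] at h2
  exact h2 ▸ ha

end CfsgLib.QBaer
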