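import Mathlib
import Cfsg.Agent.Lib.QBaer.Core

/-!
# Groups in which every element of `q`-power order has prime power class size
-/

set_option autoImplicit false
set_option linter.style.haveILetI false
set_option linter.unusedSectionVars false

universe u

namespace CfsgLib.QBaer

open Cfsg

variable {G : Type u} [Group G] [Finite G] {q : ℕ} [hq : Fact q.Prime]

/-- The hypothesis on class sizes. -/
def IsQBaer (q : ℕ) (G : Type u) [Group G] : Prop :=
  ∀ x : G, (∃ k : ℕ, orderOf x = q ^ k) →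
    ∃ (r : ℕ) (a : ℕ), r.Prime ∧ (Subgroup.centralizer ({x} : Set G)).index = r ^ a

variable (hB : IsQBaer q G)
include hB

theorem exists_qElem_sylow (x : G) (hx : ∃ k : ℕ, orderOf x = q ^ k) (Q : Sylow q G) :
    ∃ g : G, g * x * g⁻¹ ∈ (Q : Subgroup G) := by
  obtain ⟨k, hk⟩ := hx
  obtain ⟨P, hP⟩ := (IsPGroup.of_card (p := q) (G := Subgroup.zpowers x) (n := k)
    (by rw [Nat.card_zpowers, hk])).exists_le_sylow
  obtain ⟨g, hg⟩ := MulAction.exists_smul_eq G P Q
  refine ⟨g, ?_⟩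
  rw [← hg, Sylow.coe_subgroup_smul]
  exact Subgroup.smul_mem_pointwise_smul x (MulAut.conj g) _ (hP (Subgroup.mem_zpowers x))

theorem first_part (Q : Sylow q G) :
    ∃ K L : Subgroup G, K.Normal ∧ L.Normal ∧ K ≤ L ∧ (Nat.card K).Coprime q ∧
      (∃ m : ℕ, K.relIndex L = q ^ m) ∧ L.index.Coprime q := by
  haveI := Transfer.pPrimeCore_normal q G
  haveI := Fitting.pCore_normal (G := G ⧸ pPrimeCore q G) q
  set π := QuotientGroup.mk' (pPrimeCore q G) with hπ
  refine ⟨pPrimeCore q G, (pCore q _).comap π, inferInstance, inferInstance, fun u hu => ?_,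
    Transfer.pPrimeCore_coprime q, ?_, ?_⟩
  · rw [Subgroup.mem_comap, show π u = 1 from (QuotientGroup.eq_one_iff u).mpr hu]
    exact one_mem _
  · obtain ⟨m, hm⟩ := IsPGroup.iff_card.mp (Fitting.pCore_isPGroup (G := G ⧸ pPrimeCore q G) q)
    refine ⟨m, ?_⟩
    rw [← hm]
    conv_lhs => arg 1; rw [← QuotientGroup.ker_mk' (pPrimeCore q G)]
    rw [Subgroup.relIndex_ker, Subgroup.map_comap_eq_self_of_surjective (QuotientGroup.mk'_surjective _)]
  · refine Nat.Coprime.coprime_dvd_left (Subgroup.index_dvd_of_le (H := (Q : Subgroup G)) fun x hx => ?_)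
      ((Nat.Prime.coprime_iff_not_dvd hq.out).mpr Q.not_dvd_index).symm
    obtain ⟨k, hk⟩ := (IsPGroup.iff_orderOf.mp Q.isPGroup') ⟨x, hx⟩
    have hk' : orderOf x = q ^ k := by rwa [← Subgroup.orderOf_coe] at hk
    obtain ⟨r, a, hr, hra⟩ := hB x ⟨k, hk'⟩
    haveI : Fact r.Prime := ⟨hr⟩
    exact mk_core_mem ⟨k, hk'⟩ hra

/-- The facts about the quotient by `O_{q'}`. -/
theorem quotient_facts :
    haveI := Transfer.pPrimeCore_normal q G
    let π := QuotientGroup.mk' (pPrimeCore q G)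
    let A := pCore q (G ⧸ pPrimeCore q G)
    A.index.Coprime q ∧ Subgroup.centralizer (A : Set (G ⧸ pPrimeCore q G)) ≤ A ∧
      ∀ P : Sylow q G, (P : Subgroup G).map π = A ∧
        ∀ x ∈ (P : Subgroup G), π x = 1 → x = 1 := by
  haveI := Transfer.pPrimeCore_normal q G
  haveI := Fitting.pCore_normal (G := G ⧸ pPrimeCore q G) q
  intro π A
  have hsur : Function.Surjective π := QuotientGroup.mk'_surjective _
  have hP : ∀ P : Sylow q G, (P : Subgroup G).map π = A := fun P => by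
    refine sylow_map_eq_pCore π hsur P fun x hx => ?_
    obtain ⟨k, hk⟩ := (IsPGroup.iff_orderOf.mp P.isPGroup') ⟨x, hx⟩
    have hk' : orderOf x = q ^ k := by rwa [← Subgroup.orderOf_coe] at hk
    obtain ⟨r, a, hr, hra⟩ := hB x ⟨k, hk'⟩
    haveI : Fact r.Prime := ⟨hr⟩
    exact mk_core_mem ⟨k, hk'⟩ hra
  have hi : A.index.Coprime q := by
    obtain ⟨P⟩ : Nonempty (Sylow q G) := inferInstance
    rw [← hP P]
    exact Nat.Coprime.coprime_dvd_left (Subgroup.index_map_dvd _ hsur)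
      ((Nat.Prime.coprime_iff_not_dvd hq.out).mpr P.not_dvd_index).symm
  refine ⟨hi, centralizer_le A (Fitting.pCore_isPGroup q) hi
    (Layer.pPrimeCore_quotient_eq_bot q), fun P => ⟨hP P, fun x hx h1 => ?_⟩⟩
  obtain ⟨k, hk⟩ := (IsPGroup.iff_orderOf.mp P.isPGroup') ⟨x, hx⟩
  rw [← Subgroup.orderOf_coe] at hk
  have h2 : orderOf x ∣ Nat.card (pPrimeCore q G) :=
    Subgroup.orderOf_dvd_natCard _ ((QuotientGroup.eq_one_iff x).mp h1)
  have h3 : orderOf x = 1 := by
    refine Nat.dvd_one.mp ?_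
    rw [← ((Transfer.pPrimeCore_coprime (G := G) q).pow_right k).gcd_eq_one]
    exact Nat.dvd_gcd h2 hk.dvd
  exact orderOf_eq_one_iff.mp h3

theorem exists_mem_of_lift (Q : Sylow q G)
    (a : G ⧸ pPrimeCore q G) (ha : a ∈ pCore q (G ⧸ pPrimeCore q G))
    [(pPrimeCore q G).Normal] :
    ∃ x ∈ (Q : Subgroup G), (∃ k : ℕ, orderOf x = q ^ k) ∧ QuotientGroup.mk' (pPrimeCore q G) x = a := by
  rw [← ((quotient_facts hB).2.2 Q).1] at ha
  obtain ⟨x, hx, rfl⟩ := ha
  obtain ⟨k, hk⟩ := (IsPGroup.iff_orderOf.mp Q.isPGroup') ⟨x, hx⟩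
  exact ⟨x, hx, ⟨k, by rwa [← Subgroup.orderOf_coe] at hk⟩, rfl⟩

/-- A noncommutative Sylow subgroup is a normal direct factor. -/
theorem nonabelian (Q : Sylow q G) (hQ : ¬ IsMulCommutative (Q : Subgroup G)) :
    (Q : Subgroup G).Normal ∧ (∃ N : Subgroup G, N.Normal ∧ N.IsComplement' (Q : Subgroup G)) ∧
      ∀ x : G, (∃ k : ℕ, orderOf x = q ^ k) →
        ∃ a : ℕ, (Subgroup.centralizer ({x} : Set G)).index = q ^ a := by
  haveI := Transfer.pPrimeCore_normal q G
  haveI := Fitting.pCore_normal (G := G ⧸ pPrimeCore q G) q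
  haveI := Fitting.pCore_normal (G := G) q
  obtain ⟨hAi, hCA, hPA⟩ := quotient_facts hB
  set π := QuotientGroup.mk' (pPrimeCore q G) with hπ
  set A := pCore q (G ⧸ pPrimeCore q G) with hA
  have hsur : Function.Surjective π := QuotientGroup.mk'_surjective _
  have hAq : IsPGroup q A := Fitting.pCore_isPGroup q
  have hlift : ∀ a ∈ A, ∃ x ∈ (Q : Subgroup G), (∃ k : ℕ, orderOf x = q ^ k) ∧ π x = a :=
    fun a ha => exists_mem_of_lift hB Q a ha
  -- elements outside `O_q` are central modulo `O_{q'}`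
  have hdich : ∀ x : G, (∃ k : ℕ, orderOf x = q ^ k) →
      (∃ a : ℕ, (Subgroup.centralizer ({x} : Set G)).index = q ^ a) ∨
        ∀ b ∈ A, b * π x = π x * b := by
    intro x hx
    obtain ⟨r, a, hr, hra⟩ := hB x hx
    rcases eq_or_ne r q with rfl | hne
    · exact Or.inl ⟨a, hra⟩
    · right
      obtain ⟨P, -, hP⟩ := exists_sylow_central hx
        (by rw [hra]; exact ((Nat.coprime_primes hr hq.out).mpr hne).pow_left a)
      intro b hb
      rw [← (hPA P).1] at hb
      obtain ⟨y, hy, rfl⟩ := hb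
      rw [← map_mul, hP y hy, map_mul]
  -- `A` is centralized by every Sylow subgroup for another prime
  have hR : ∀ r : ℕ, r.Prime → r ≠ q → ∀ R : Sylow r (G ⧸ pPrimeCore q G),
      ∀ a ∈ A, ∀ u ∈ (R : Subgroup _), u * a = a * u := by
    intro r hr hrq R
    haveI : Fact r.Prime := ⟨hr⟩
    let C : Subgroup (G ⧸ pPrimeCore q G) :=
      A ⊓ Subgroup.centralizer ((R : Subgroup (G ⧸ pPrimeCore q G)) : Set (G ⧸ pPrimeCore q G))
    let Z : Subgroup (G ⧸ pPrimeCore q G) :=
      A ⊓ Subgroup.centralizer (A : Set (G ⧸ pPrimeCore q G))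
    have hconj : ∀ a ∈ A, a ∉ Z → ∃ u ∈ A, u⁻¹ * a * u ∈ C := by
      intro a ha haZ
      obtain ⟨x, -, hxo, rfl⟩ := hlift a ha
      rcases hdich x hxo with ⟨b, hb⟩ | h
      · set Ca := Subgroup.centralizer ({π x} : Set (G ⧸ pPrimeCore q G)) with hCa
        obtain ⟨e, -, he⟩ := (Nat.dvd_prime_pow hq.out).mp (hb ▸ centralizer_map_index_dvd π hsur x)
        obtain ⟨S, hS⟩ : ∃ S : Sylow r (G ⧸ pPrimeCore q G), (S : Subgroup _) ≤ Ca := by
          obtain ⟨S₀⟩ : Nonempty (Sylow r Ca) := inferInstance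
          have hS : IsPGroup r ((S₀ : Subgroup Ca).map Ca.subtype) := S₀.isPGroup'.map _
          obtain ⟨S, hle⟩ := hS.exists_le_sylow
          refine ⟨S, ?_⟩
          rw [← Subgroup.eq_of_le_of_card_ge hle ?_]
          · exact Subgroup.map_subtype_le _
          rw [Subgroup.card_map_of_injective Ca.subtype_injective, S.card_eq_multiplicity,
            S₀.card_eq_multiplicity]
          refine Nat.pow_le_pow_right hr.pos ?_
          rw [← Ca.card_mul_index, he, Nat.factorization_mul Nat.card_pos.ne'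
              (pow_ne_zero _ hq.out.ne_zero), Finsupp.add_apply,
            Nat.factorization_eq_zero_of_not_dvd fun h =>
              hrq ((Nat.prime_dvd_prime_iff_eq hr hq.out).mp (hr.dvd_of_dvd_pow h)), add_zero]
        obtain ⟨g, hg⟩ := MulAction.exists_smul_eq (G ⧸ pPrimeCore q G) R S
        obtain ⟨c, hc, u, hu, rfl⟩ := ClassGraph.exists_mul_of_coprime
          (H := Ca) (K := A) (by rw [he]; exact hAi.symm.pow_left e) g
        have hcx : c * π x = π x * c := Subgroup.mem_centralizer_singleton_iff.mp hc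
        refine ⟨u, hu, ⟨A.mul_mem (A.mul_mem (A.inv_mem hu) ha) hu, Subgroup.mem_centralizer_iff.mpr
          fun w hw => ?_⟩⟩
        have hw' : (c * u) * w * (c * u)⁻¹ ∈ Ca := hS (hg ▸ by
          rw [Sylow.coe_subgroup_smul]
          exact Subgroup.smul_mem_pointwise_smul w (MulAut.conj (c * u)) _ hw)
        have h1 := Subgroup.mem_centralizer_singleton_iff.mp hw'
        have h2 : c⁻¹ * π x * c = π x := by rw [mul_assoc, ← hcx, inv_mul_cancel_left]
        calc w * (u⁻¹ * π x * u) = w * (u⁻¹ * (c⁻¹ * π x * c) * u) := by rw [h2]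
          _ = (c * u)⁻¹ * (c * u * w * (c * u)⁻¹ * π x) * (c * u) := by group
          _ = (c * u)⁻¹ * (π x * (c * u * w * (c * u)⁻¹)) * (c * u) := by rw [h1]
          _ = u⁻¹ * (c⁻¹ * π x * c) * u * w := by group
          _ = u⁻¹ * π x * u * w := by rw [h2]
      · exact absurd ⟨ha, Subgroup.mem_centralizer_iff.mpr h⟩ haZ
    set T := C ⊔ Z with hT
    have hTA : T ≤ A := sup_le inf_le_left inf_le_left
    have hTtop : T = A := by
      refine le_antisymm hTA ?_
      have : T.subgroupOf A = ⊤ := by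
        refine TwoClassSizes.eq_top_of_conj_cover fun a => ?_
        by_cases haZ : (a : G ⧸ pPrimeCore q G) ∈ Z
        · exact ⟨1, Subgroup.mem_subgroupOf.mpr (by simpa using Subgroup.mem_sup_right haZ)⟩
        · obtain ⟨u, hu, hC⟩ := hconj a a.2 haZ
          exact ⟨⟨u, hu⟩, Subgroup.mem_subgroupOf.mpr (Subgroup.mem_sup_left hC)⟩
      exact Subgroup.subgroupOf_eq_top.mp this
    have hnorm : T ≤ Subgroup.normalizer (C : Set (G ⧸ pPrimeCore q G)) := by
      refine sup_le Subgroup.le_normalizer fun z hz => Subgroup.centralizer_le_normalizer _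
        (Subgroup.mem_centralizer_iff.mpr fun c hc => Subgroup.mem_centralizer_iff.mp hz.2 c hc.1)
    obtain ⟨c, hcC, hcZ⟩ : ∃ c ∈ C, c ∉ Z := by
      by_contra h
      push Not at h
      have hZA : A ≤ Z := hTtop.ge.trans (sup_le h le_rfl)
      refine hQ ⟨⟨fun a b => Subtype.ext ?_⟩⟩
      have h1 : π ((a : G) * b) = π ((b : G) * a) := by
        rw [map_mul, map_mul]
        exact Subgroup.mem_centralizer_iff.mp
          (hZA ((hPA Q).1 ▸ ⟨_, b.2, rfl⟩ : π (b : G) ∈ A)).2 _ ((hPA Q).1 ▸ ⟨_, a.2, rfl⟩)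
      have h2 := (hPA Q).2 _ (mul_mem (mul_mem a.2 b.2) (inv_mem (mul_mem b.2 a.2)))
        (by rw [map_mul, map_inv, h1, mul_inv_cancel])
      exact mul_inv_eq_one.mp h2
    have hZC : Z ≤ C := by
      intro z hz
      have hw : c * z ∈ A := mul_mem hcC.1 hz.1
      obtain ⟨u, hu, hC⟩ := hconj _ hw fun h => hcZ (by simpa using Z.mul_mem h (Z.inv_mem hz))
      have h1 : c * z ∈ C := by
        rw [show c * z = u * (u⁻¹ * (c * z) * u) * u⁻¹ by group]
        exact (Subgroup.mem_normalizer_iff.mp (hnorm (hTtop.ge hu)) _).mp hC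
      simpa using C.mul_mem (C.inv_mem hcC) h1
    intro a ha u hu
    exact Subgroup.mem_centralizer_iff.mp ((sup_le le_rfl hZC : T ≤ C) (hTtop.ge ha)).2 u hu
  -- the quotient is a `q`-group
  have hAtop : A = ⊤ := by
    rw [← Subgroup.index_eq_one]
    by_contra hne
    obtain ⟨r, hr, hrd⟩ := Nat.exists_prime_and_dvd hne
    haveI : Fact r.Prime := ⟨hr⟩
    have hrq : r ≠ q := fun h => by
      subst h
      exact (Nat.Prime.coprime_iff_not_dvd hq.out).mp hAi.symm hrd
    obtain ⟨R⟩ : Nonempty (Sylow r (G ⧸ pPrimeCore q G)) := inferInstance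
    have hle : (R : Subgroup _) ≤ A := fun u hu =>
      hCA (Subgroup.mem_centralizer_iff.mpr fun a ha => (hR r hr hrq R a ha u hu).symm)
    have h1 : r ∣ Nat.card A := dvd_trans
      (R.dvd_card_of_dvd_card (hrd.trans A.index_dvd_card)) (Subgroup.card_dvd_of_le hle)
    obtain ⟨m, hm⟩ := IsPGroup.iff_card.mp hAq
    rw [hm] at h1
    exact hrq ((Nat.prime_dvd_prime_iff_eq hr hq.out).mp (hr.dvd_of_dvd_pow h1))
  -- back in `G`
  have hOQ : pCore q G ≤ (Q : Subgroup G) := by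
    rw [← Q.is_maximal' ((Fitting.pCore_isPGroup (G := G) q).to_sup_of_normal_left Q.isPGroup') le_sup_right]
    exact le_sup_left
  have hQO : (Q : Subgroup G) = pCore q G := by
    refine le_antisymm ?_ hOQ
    have hun : ∀ x ∈ (Q : Subgroup G), x ∈ pCore q G ∨
        ∀ y ∈ (Q : Subgroup G), y * x = x * y := by
      intro x hx
      obtain ⟨k, hk⟩ := (IsPGroup.iff_orderOf.mp Q.isPGroup') ⟨x, hx⟩
      rw [← Subgroup.orderOf_coe] at hk
      rcases hdich x ⟨k, hk⟩ with ⟨a, ha⟩ | h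
      · left
        have h1 : (QuotientGroup.mk' (pCore q G) x) ∈ pCore q (G ⧸ pCore q G) :=
          mk_mem_pCore ⟨k, hk⟩ ha
        have h2 : (MonoidHom.id G) x ∈ pCore q G := map_mem_pCore (MonoidHom.id G)
          Function.surjective_id h1 fun u hu => by
            obtain ⟨j, hj⟩ := Fitting.pCore_isPGroup (G := G) q ⟨u, hu⟩
            exact ⟨j, congrArg Subtype.val hj⟩
        exact h2
      · right
        intro y hy
        have h1 := (hPA Q).2 _ (mul_mem (mul_mem hy hx) (inv_mem (mul_mem hx hy))) (by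
          rw [map_mul, map_inv, map_mul, map_mul, h (π y) (hAtop ▸ Subgroup.mem_top _), mul_inv_cancel])
        exact mul_inv_eq_one.mp h1
    intro a ha
    by_contra haO
    have haZ := (hun a ha).resolve_left haO
    refine hQ ⟨⟨fun b c => Subtype.ext ?_⟩⟩
    have hall : ∀ w ∈ (Q : Subgroup G), ∀ y ∈ (Q : Subgroup G), y * w = w * y := by
      intro w hw
      rcases hun w hw with hwO | hwZ
      · rcases hun (a * w) (mul_mem ha hw) with h | h
        · exact absurd (by simpa using mul_mem h (inv_mem hwO)) haO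
        · intro y hy
          have h1 := h y hy
          rw [← mul_assoc, haZ y hy, mul_assoc, mul_assoc] at h1
          exact mul_left_cancel h1
      · exact hwZ
    exact hall c c.2 b b.2
  have hQn : (Q : Subgroup G).Normal := hQO ▸ inferInstance
  haveI := hQn
  have hcardK : Nat.card (pPrimeCore q G) * Nat.card (Q : Subgroup G) = Nat.card G := by
    have h1 : (pPrimeCore q G).index = Nat.card (Q : Subgroup G) := by
      rw [Subgroup.index, ← Subgroup.card_top (G := G ⧸ pPrimeCore q G), ← hAtop, ← (hPA Q).1]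
      have hinj : Function.Injective (π.comp (Q : Subgroup G).subtype) := by
        rw [injective_iff_map_eq_one]
        exact fun y hy => Subtype.ext ((hPA Q).2 _ y.2 hy)
      rw [show (Q : Subgroup G).map π = (π.comp (Q : Subgroup G).subtype).range by
        rw [MonoidHom.range_comp, Subgroup.range_subtype]]
      exact (Nat.card_congr (MonoidHom.ofInjective hinj).toEquiv).symm
    rw [← h1, Subgroup.card_mul_index]
  obtain ⟨n, hn⟩ := IsPGroup.iff_card.mp Q.isPGroup'
  have hcop : (Nat.card (pPrimeCore q G)).Coprime (Nat.card (Q : Subgroup G)) := by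
    rw [hn]; exact (Transfer.pPrimeCore_coprime q).pow_right n
  refine ⟨hQn, ⟨pPrimeCore q G, inferInstance, Subgroup.isComplement'_of_coprime hcardK hcop⟩, ?_⟩
  intro x hx
  obtain ⟨g, hg⟩ := exists_qElem_sylow hB x hx Q
  have hxQ : x ∈ (Q : Subgroup G) := by
    have := hQn.conj_mem _ hg g⁻¹
    simpa [mul_assoc] using this
  have hdis : Disjoint (pPrimeCore q G) (Q : Subgroup G) :=
    disjoint_iff.mpr (Subgroup.inf_eq_bot_of_coprime hcop)
  have hle : pPrimeCore q G ≤ Subgroup.centralizer ({x} : Set G) := fun u hu =>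
    Subgroup.mem_centralizer_singleton_iff.mpr
      (Subgroup.commute_of_normal_of_disjoint _ _ inferInstance hQn hdis u x hu hxQ).eq
  have h2 := Subgroup.index_dvd_of_le hle
  rw [show (pPrimeCore q G).index = q ^ n by
    refine mul_left_cancel₀ (Nat.card_pos (α := pPrimeCore q G)).ne' ?_
    rw [Subgroup.card_mul_index, ← hn, hcardK]] at h2
  obtain ⟨a, -, ha⟩ := (Nat.dvd_prime_pow hq.out).mp h2
  exact ⟨a, ha⟩

theorem index_coprime_of_abelian (Q : Sylow q G) (hQ : IsMulCommutative (Q : Subgroup G)) (x : G)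
    (hx : ∃ k : ℕ, orderOf x = q ^ k) : (Subgroup.centralizer ({x} : Set G)).index.Coprime q := by
  obtain ⟨k, hk⟩ := hx
  obtain ⟨P, hP⟩ := (IsPGroup.of_card (p := q) (G := Subgroup.zpowers x) (n := k)
    (by rw [Nat.card_zpowers, hk])).exists_le_sylow
  refine Nat.Coprime.coprime_dvd_left (Subgroup.index_dvd_of_le (H := (P : Subgroup G)) fun y hy => ?_)
    ((Nat.Prime.coprime_iff_not_dvd hq.out).mpr P.not_dvd_index).symm
  refine Subgroup.mem_centralizer_singleton_iff.mpr ?_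
  let e := P.equiv Q
  have h := congrArg e.symm (hQ.is_comm.comm (e ⟨y, hy⟩) (e ⟨x, hP (Subgroup.mem_zpowers x)⟩))
  simp only [map_mul, MulEquiv.symm_apply_apply] at h
  exact congrArg Subtype.val h

/-- An abelian Sylow subgroup: a single prime covers all noncentral `q`-elements. -/
theorem prime_unique (Q : Sylow q G) (hQ : IsMulCommutative (Q : Subgroup G)) {x y : G}
    (hxQ : x ∈ (Q : Subgroup G)) (hyQ : y ∈ (Q : Subgroup G)) {r s a b : ℕ} (hr : r.Prime)
    (hs : s.Prime) (hx : (Subgroup.centralizer ({x} : Set G)).index = r ^ a) (ha : a ≠ 0)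
    (hy : (Subgroup.centralizer ({y} : Set G)).index = s ^ b) (hb : b ≠ 0) : r = s := by
  haveI := Transfer.pPrimeCore_normal q G
  haveI := Fitting.pCore_normal (G := G ⧸ pPrimeCore q G) q
  obtain ⟨hAi, hCA, hPA⟩ := quotient_facts hB
  set K := pPrimeCore q G with hK
  set π := QuotientGroup.mk' K with hπ
  set A := pCore q (G ⧸ K) with hA
  have hsur : Function.Surjective π := QuotientGroup.mk'_surjective _
  have hqe : ∀ z ∈ (Q : Subgroup G), ∃ k : ℕ, orderOf z = q ^ k := fun z hz => by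
    obtain ⟨k, hk⟩ := (IsPGroup.iff_orderOf.mp Q.isPGroup') ⟨z, hz⟩
    exact ⟨k, by rwa [← Subgroup.orderOf_coe] at hk⟩
  have hQc : ∀ u ∈ (Q : Subgroup G), ∀ v ∈ (Q : Subgroup G), u * v = v * u := fun u hu v hv =>
    congrArg Subtype.val (hQ.is_comm.comm (⟨u, hu⟩ : (Q : Subgroup G)) ⟨v, hv⟩)
  have hne : ∀ z ∈ (Q : Subgroup G), ∀ t c : ℕ, t.Prime → c ≠ 0 →
      (Subgroup.centralizer ({z} : Set G)).index = t ^ c → t ≠ q := by
    intro z hz t c ht hc he h
    subst h
    have := index_coprime_of_abelian hB Q hQ z (hqe z hz)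
    rw [he] at this
    exact (Nat.Prime.coprime_iff_not_dvd ht).mp this.symm (dvd_pow_self t hc)
  -- commutators with `K`
  have hcom : ∀ z ∈ (Q : Subgroup G), ∀ t c : ℕ, t.Prime →
      (Subgroup.centralizer ({z} : Set G)).index = t ^ c →
      ∀ k ∈ K, k * z * k⁻¹ * z⁻¹ ∈ pCore t G := by
    intro z hz t c ht he k hk
    haveI : Fact t.Prime := ⟨ht⟩
    haveI := Fitting.pCore_normal (G := G) t
    haveI := Fitting.pCore_normal (G := G ⧸ pCore t G) q
    have hm : QuotientGroup.mk' (pCore t G) z ∈ pCore q (G ⧸ pCore t G) := mk_mem_pCore (hqe z hz) he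
    set u := k * z * k⁻¹ * z⁻¹ with hu
    have huK : u ∈ K := by
      rw [hu, show k * z * k⁻¹ * z⁻¹ = k * (z * k⁻¹ * z⁻¹) by group]
      exact mul_mem hk ((inferInstance : K.Normal).conj_mem _ (inv_mem hk) z)
    obtain ⟨j, hj⟩ := Fitting.pCore_isPGroup (G := G ⧸ pCore t G) q ⟨_,
      (show QuotientGroup.mk' (pCore t G) u ∈ pCore q (G ⧸ pCore t G) by
        rw [hu, map_mul, map_mul, map_mul, map_inv, map_inv]
        exact mul_mem ((inferInstance : (pCore q (G ⧸ pCore t G)).Normal).conj_mem _ hm _)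
          (inv_mem hm))⟩
    have h1 : (QuotientGroup.mk' (pCore t G) u) ^ q ^ j = 1 := congrArg Subtype.val hj
    have h2 : (QuotientGroup.mk' (pCore t G) u) ^ Nat.card K = 1 := by
      rw [← map_pow, show u ^ Nat.card K = 1 from
        congrArg Subtype.val (pow_card_eq_one' (x := (⟨u, huK⟩ : K))), map_one]
    have h3 := pow_gcd_eq_one.mpr ⟨h1, h2⟩
    rw [((Transfer.pPrimeCore_coprime (G := G) q).symm.pow_left j).gcd_eq_one, pow_one] at h3
    exact (QuotientGroup.eq_one_iff u).mp h3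
  have hdis : ∀ t t' : ℕ, t.Prime → t'.Prime → t ≠ t' → Disjoint (pCore t G) (pCore t' G) := by
    intro t t' ht ht' htt
    haveI : Fact t.Prime := ⟨ht⟩
    haveI : Fact t'.Prime := ⟨ht'⟩
    obtain ⟨i, hi⟩ := IsPGroup.iff_card.mp (Fitting.pCore_isPGroup (G := G) t)
    obtain ⟨j, hj⟩ := IsPGroup.iff_card.mp (Fitting.pCore_isPGroup (G := G) t')
    exact disjoint_iff.mpr (Subgroup.inf_eq_bot_of_coprime
      (by rw [hi, hj]; exact Nat.coprime_pow_primes _ _ ht ht' htt))
  let U : G → Prop := fun z => ∃ k ∈ K, k * z * k⁻¹ * z⁻¹ ≠ 1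
  let W : G → Prop := fun z => ∃ g, π g * π z * (π g)⁻¹ ≠ π z
  have hUeq : ∀ z ∈ (Q : Subgroup G), ∀ w ∈ (Q : Subgroup G), ∀ t c t' c' : ℕ, t.Prime → t'.Prime →
      (Subgroup.centralizer ({z} : Set G)).index = t ^ c →
      (Subgroup.centralizer ({w} : Set G)).index = t' ^ c' → U z → U w → t = t' := by
    intro z hz w hw t c t' c' ht ht' hzi hwi ⟨k₁, hk₁, hk₁'⟩ ⟨k₂, hk₂, hk₂'⟩
    by_contra htt
    haveI : Fact t.Prime := ⟨ht⟩
    haveI : Fact t'.Prime := ⟨ht'⟩
    haveI := Fitting.pCore_normal (G := G) t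
    haveI := Fitting.pCore_normal (G := G) t'
    obtain ⟨m, e, hm, hme⟩ := hB (z * w) (hqe _ (mul_mem hz hw))
    haveI : Fact m.Prime := ⟨hm⟩
    have hexp : ∀ k : G, k * (z * w) * k⁻¹ * (z * w)⁻¹ =
        (k * z * k⁻¹ * z⁻¹) * (z * (k * w * k⁻¹ * w⁻¹) * z⁻¹) := fun k => by group
    have hd := hdis t t' ht ht' htt
    have hmt : m ≠ t := by
      rintro rfl
      have h1 := hcom _ (mul_mem hz hw) m e hm hme k₂ hk₂
      rw [hexp] at h1
      have h2 := (Subgroup.mul_mem_cancel_left _ (hcom z hz m c ht hzi k₂ hk₂)).mp h1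
      have h3 := (inferInstance : (pCore m G).Normal).conj_mem _ h2 z⁻¹
      refine hk₂' (Subgroup.disjoint_def.mp hd ?_ (hcom w hw t' c' ht' hwi k₂ hk₂))
      convert h3 using 1
      group
    have hmt' : m ≠ t' := by
      rintro rfl
      have h1 := hcom _ (mul_mem hz hw) m e hm hme k₁ hk₁
      rw [hexp] at h1
      have h2 := (Subgroup.mul_mem_cancel_right _
        ((inferInstance : (pCore m G).Normal).conj_mem _ (hcom w hw m c' ht' hwi k₁ hk₁) z)).mp h1
      exact hk₁' (Subgroup.disjoint_def.mp hd (hcom z hz t c ht hzi k₁ hk₁) h2)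
    -- the commutator lies in three cores
    have h1 := hcom _ (mul_mem hz hw) m e hm hme k₁ hk₁
    rw [hexp] at h1
    set p₁ := k₁ * z * k₁⁻¹ * z⁻¹ with hp₁
    set p₂ := z * (k₁ * w * k₁⁻¹ * w⁻¹) * z⁻¹ with hp₂
    have hp₁m : p₁ ∈ pCore t G := hcom z hz t c ht hzi k₁ hk₁
    have hp₂m : p₂ ∈ pCore t' G :=
      (inferInstance : (pCore t' G).Normal).conj_mem _ (hcom w hw t' c' ht' hwi k₁ hk₁) z
    obtain ⟨i, hi⟩ := Fitting.pCore_isPGroup (G := G) t ⟨_, hp₁m⟩
    obtain ⟨j, hj⟩ := Fitting.pCore_isPGroup (G := G) t' ⟨_, hp₂m⟩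
    obtain ⟨l, hl⟩ := Fitting.pCore_isPGroup (G := G) m ⟨_, h1⟩
    have hcm : Commute p₁ p₂ :=
      Subgroup.commute_of_normal_of_disjoint _ _ inferInstance inferInstance hd p₁ p₂ hp₁m hp₂m
    have e1 : (p₁ * p₂) ^ (t ^ i * t' ^ j) = 1 := by
      rw [hcm.mul_pow, pow_mul, show p₁ ^ t ^ i = 1 from congrArg Subtype.val hi, one_pow, one_mul,
        mul_comm (t ^ i), pow_mul, show p₂ ^ t' ^ j = 1 from congrArg Subtype.val hj, one_pow]
    have e2 := pow_gcd_eq_one.mpr ⟨e1, (congrArg Subtype.val hl : (p₁ * p₂) ^ m ^ l = 1)⟩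
    rw [(Nat.Coprime.mul_left (Nat.coprime_pow_primes i l ht hm (Ne.symm hmt))
      (Nat.coprime_pow_primes j l ht' hm (Ne.symm hmt'))).gcd_eq_one, pow_one] at e2
    have hp₁' : p₁ ∈ pCore t' G := by rw [eq_inv_of_mul_eq_one_left e2]; exact inv_mem hp₂m
    exact hk₁' (Subgroup.disjoint_def.mp hd hp₁m hp₁')
  have hWeq : ∀ z ∈ (Q : Subgroup G), ∀ w ∈ (Q : Subgroup G), ∀ t c t' c' : ℕ, t.Prime → t'.Prime →
      t ≠ q → t' ≠ q →
      (Subgroup.centralizer ({z} : Set G)).index = t ^ c →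
      (Subgroup.centralizer ({w} : Set G)).index = t' ^ c' → W z → W w → t = t' := by
    intro z hz w hw t c t' c' ht ht' htq htq' hzi hwi ⟨g₁, hg₁⟩ ⟨g₂, hg₂⟩
    have hAc : ∀ u v : A, u * v = v * u := fun u v => by
      obtain ⟨u, hu⟩ := u
      obtain ⟨v, hv⟩ := v
      rw [← (hPA Q).1] at hu hv
      obtain ⟨u, hu', rfl⟩ := hu
      obtain ⟨v, hv', rfl⟩ := hv
      refine Subtype.ext ?_
      show π u * π v = π v * π u
      rw [← map_mul, hQc u hu' v hv', map_mul]
    letI : CommGroup A := { (inferInstance : Group A) with mul_comm := hAc }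
    let φ : (G ⧸ K) →* MulAut A := MulAut.conjNormal
    have hval : ∀ (g : G ⧸ K) (v : A), ((φ g v : A) : G ⧸ K) = g * v * g⁻¹ := fun g v =>
      MulAut.conjNormal_apply g v
    have hst : ∀ v : A, stab φ v = Subgroup.centralizer ({(v : G ⧸ K)} : Set (G ⧸ K)) := fun v => by
      ext g
      rw [mem_stab, Subgroup.mem_centralizer_singleton_iff, Subtype.ext_iff, hval,
        mul_inv_eq_iff_eq_mul]
    have hall : ∀ v, ∃ t c : ℕ, t.Prime ∧ (stab φ v).index = t ^ c := fun v => by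
      obtain ⟨u, hu, huo, huv⟩ := exists_mem_of_lift hB Q v v.2
      obtain ⟨m, e, hm, hme⟩ := hB u huo
      obtain ⟨e', -, he'⟩ := (Nat.dvd_prime_pow hm).mp (hme ▸ centralizer_map_index_dvd π hsur u)
      exact ⟨m, e', hm, by rw [hst, ← huv]; exact he'⟩
    have hzA : π z ∈ A := (hPA Q).1 ▸ ⟨z, hz, rfl⟩
    have hwA : π w ∈ A := (hPA Q).1 ▸ ⟨w, hw, rfl⟩
    obtain ⟨c₁, -, hc₁⟩ := (Nat.dvd_prime_pow ht).mp (hzi ▸ centralizer_map_index_dvd π hsur z)
    obtain ⟨c₂, -, hc₂⟩ := (Nat.dvd_prime_pow ht').mp (hwi ▸ centralizer_map_index_dvd π hsur w)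
    exact same_prime φ (Fitting.pCore_isPGroup q) hall (x := ⟨π z, hzA⟩) (y := ⟨π w, hwA⟩)
      ht ht' htq htq' (by rw [hst]; exact hc₁) (by rw [hst]; exact hc₂)
      ⟨π g₁, fun h => hg₁ ((hval _ _).symm.trans (congrArg Subtype.val h))⟩
      ⟨π g₂, fun h => hg₂ ((hval _ _).symm.trans (congrArg Subtype.val h))⟩
  have hUW : ∀ z ∈ (Q : Subgroup G), ∀ t c : ℕ, c ≠ 0 → t.Prime →
      (Subgroup.centralizer ({z} : Set G)).index = t ^ c → U z ∨ W z := by
    intro z hz t c hc ht he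
    by_contra h
    simp only [U, W, not_or, not_exists, not_and, not_not] at h
    obtain ⟨h1, h2⟩ := h
    have hcen : ∀ g : G, g * z = z * g := by
      intro g
      set u := g * z * g⁻¹ * z⁻¹ with hu
      have huK : u ∈ K := by
        rw [← QuotientGroup.eq_one_iff]
        show π u = 1
        rw [hu, map_mul, map_mul, map_mul, map_inv, map_inv, h2 g, mul_inv_cancel]
      have hcm : Commute u z := by
        have := mul_inv_eq_one.mp (h1 u huK)
        exact (mul_inv_eq_iff_eq_mul.mp this)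
      obtain ⟨k, hk⟩ := hqe z hz
      have e1 : u ^ q ^ k = 1 := by
        have h3 : (u * z) ^ q ^ k = 1 := by
          rw [show u * z = g * z * g⁻¹ by rw [hu]; group, conj_pow, ← hk, pow_orderOf_eq_one, mul_one,
            mul_inv_cancel]
        rwa [hcm.mul_pow, ← hk, pow_orderOf_eq_one, mul_one, hk] at h3
      have e2 : u ^ Nat.card K = 1 :=
        congrArg Subtype.val (pow_card_eq_one' (x := (⟨u, huK⟩ : K)))
      have e3 := pow_gcd_eq_one.mpr ⟨e1, e2⟩
      rw [((Transfer.pPrimeCore_coprime (G := G) q).symm.pow_left k).gcd_eq_one, pow_one] at e3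
      exact mul_inv_eq_iff_eq_mul.mp (mul_inv_eq_one.mp e3)
    have htop : Subgroup.centralizer ({z} : Set G) = ⊤ :=
      eq_top_iff.mpr fun g _ => Subgroup.mem_centralizer_singleton_iff.mpr (hcen g)
    rw [htop, Subgroup.index_top] at he
    exact hc ((Nat.pow_eq_one.mp he.symm).resolve_left ht.one_lt.ne')
  have hxq := hne x hxQ r a hr ha hx
  have hyq := hne y hyQ s b hs hb hy
  -- an element in both classes links them
  have hlink : ∀ z ∈ (Q : Subgroup G), ∀ t c : ℕ, t.Prime → t ≠ q →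
      (Subgroup.centralizer ({z} : Set G)).index = t ^ c → ∀ w ∈ (Q : Subgroup G), ∀ t' c' : ℕ,
      t'.Prime → t' ≠ q → (Subgroup.centralizer ({w} : Set G)).index = t' ^ c' →
      U z → W w → t = t' := by
    intro z hz t c ht htq hzi w hw t' c' ht' htq' hwi hUz hWw
    by_cases hWz : W z
    · exact hWeq z hz w hw t c t' c' ht ht' htq htq' hzi hwi hWz hWw
    by_cases hUw : U w
    · exact hUeq z hz w hw t c t' c' ht ht' hzi hwi hUz hUw
    simp only [U, W, not_exists, not_and, not_not] at hWz hUw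
    obtain ⟨k₀, hk₀, hk₀'⟩ := hUz
    obtain ⟨g₀, hg₀⟩ := hWw
    have hzw := mul_mem hz hw
    obtain ⟨m, e, hm, hme⟩ := hB (z * w) (hqe _ hzw)
    have hUm : U (z * w) := ⟨k₀, hk₀, fun h => hk₀' (by
      rw [show k₀ * (z * w) * k₀⁻¹ * (z * w)⁻¹ =
        (k₀ * z * k₀⁻¹ * z⁻¹) * (z * (k₀ * w * k₀⁻¹ * w⁻¹) * z⁻¹) by group, hUw k₀ hk₀, mul_one,
        mul_inv_cancel, mul_one] at h
      exact h)⟩
    have hWm : W (z * w) := ⟨g₀, fun h => hg₀ (by
      rw [map_mul, ← mul_assoc, show π g₀ * π z = π z * π g₀ from mul_inv_eq_iff_eq_mul.mp (hWz g₀),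
        mul_assoc, mul_assoc] at h
      rw [mul_assoc]
      exact mul_left_cancel h)⟩
    have he : e ≠ 0 := by
      rintro rfl
      rw [pow_zero, Subgroup.index_eq_one] at hme
      obtain ⟨g, hg⟩ := hWm
      refine hg ?_
      have h1 : g ∈ Subgroup.centralizer ({z * w} : Set G) := hme.ge (Subgroup.mem_top g)
      rw [← map_mul π g, Subgroup.mem_centralizer_singleton_iff.mp h1, map_mul π (z * w) g,
        mul_inv_cancel_right]
    have hmq := hne _ hzw m e hm he hme
    exact (hUeq z hz _ hzw t c m e ht hm hzi hme ⟨k₀, hk₀, hk₀'⟩ hUm).trans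
      (hWeq _ hzw w hw m e t' c' hm ht' hmq htq' hme hwi hWm ⟨g₀, hg₀⟩)
  rcases hUW x hxQ r a ha hr hx with hx' | hx' <;> rcases hUW y hyQ s b hb hs hy with hy' | hy'
  · exact hUeq x hxQ y hyQ r a s b hr hs hx hy hx' hy'
  · exact hlink x hxQ r a hr hxq hx y hyQ s b hs hyq hy hx' hy'
  · exact (hlink y hyQ s b hs hyq hy x hxQ r a hr hxq hx hy' hx').symm
  · exact hWeq x hxQ y hyQ r a s b hr hs hxq hyq hx hy hx' hy'

/-- The quotient by `O_{q'}` is solvable. -/
theorem solvable_quotient (Q : Sylow q G) (hQ : IsMulCommutative (Q : Subgroup G)) {p : ℕ}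
    (hp : p.Prime)
    (hall : ∀ x : G, (∃ k : ℕ, orderOf x = q ^ k) →
      ∃ a : ℕ, (Subgroup.centralizer ({x} : Set G)).index = p ^ a)
    [(pPrimeCore q G).Normal] : Group.IsSolvable (G ⧸ pPrimeCore q G) := by
  haveI := Fitting.pCore_normal (G := G ⧸ pPrimeCore q G) q
  obtain ⟨hAi, hCA, hPA⟩ := quotient_facts hB
  set π := QuotientGroup.mk' (pPrimeCore q G) with hπ
  set A := pCore q (G ⧸ pPrimeCore q G) with hA
  have hsur : Function.Surjective π := QuotientGroup.mk'_surjective _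
  have hAc : ∀ u v : A, u * v = v * u := fun u v => by
    obtain ⟨u, hu⟩ := u
    obtain ⟨v, hv⟩ := v
    rw [← (hPA Q).1] at hu hv
    obtain ⟨u, hu', rfl⟩ := hu
    obtain ⟨v, hv', rfl⟩ := hv
    refine Subtype.ext ?_
    show π u * π v = π v * π u
    rw [← map_mul, show u * v = v * u from congrArg Subtype.val
      (hQ.is_comm.comm (⟨u, hu'⟩ : (Q : Subgroup G)) ⟨v, hv'⟩), map_mul]
  letI : CommGroup A := { (inferInstance : Group A) with mul_comm := hAc }
  let φ : (G ⧸ pPrimeCore q G) →* MulAut A := MulAut.conjNormal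
  have hval : ∀ (g : G ⧸ pPrimeCore q G) (v : A),
      ((φ g v : A) : G ⧸ pPrimeCore q G) = g * v * g⁻¹ := fun g v => MulAut.conjNormal_apply g v
  have hker : φ.ker = A := by
    refine le_antisymm (fun g hg => hCA (Subgroup.mem_centralizer_iff.mpr fun a ha => ?_)) fun g hg => ?_
    · have h := hval g ⟨a, ha⟩
      rw [MonoidHom.mem_ker.mp hg] at h
      exact (mul_inv_eq_iff_eq_mul.mp h.symm).symm
    · refine MonoidHom.mem_ker.mpr (MulEquiv.ext fun v => Subtype.ext ?_)
      rw [hval, show g * (v : G ⧸ pPrimeCore q G) = v * g from congrArg Subtype.val (hAc ⟨g, hg⟩ v),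
        mul_inv_cancel_right]
      rfl
  haveI : Group.IsSolvable φ.range := by
    refine solvable_of_orbit_prime (Fitting.pCore_isPGroup q) φ.range ?_ hp fun v => ?_
    · rw [← Subgroup.index_ker, hker]; exact hAi
    · obtain ⟨u, -, huo, huv⟩ := exists_mem_of_lift hB Q v v.2
      obtain ⟨e, he⟩ := hall u huo
      obtain ⟨e', -, he'⟩ := (Nat.dvd_prime_pow hp).mp (he ▸ centralizer_map_index_dvd π hsur u)
      refine ⟨e', ?_⟩
      rw [← he', huv, ← Subgroup.index_comap_of_surjective _ φ.rangeRestrict_surjective]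
      congr 1
      ext g
      rw [Subgroup.mem_comap, mem_fixer, MonoidHom.coe_rangeRestrict,
        Subgroup.mem_centralizer_singleton_iff, Subtype.ext_iff, hval, mul_inv_eq_iff_eq_mul]
  haveI : Group.IsSolvable A := Group.isSolvable_of_comm hAc
  exact Group.isSolvable_of_ker_le_range A.subtype φ.rangeRestrict
    (by rw [MonoidHom.ker_rangeRestrict, hker, Subgroup.range_subtype])

theorem main (Q : Sylow q G) :
    ∃ p : ℕ, p.Prime ∧
      (∀ x : G, (∃ k : ℕ, orderOf x = q ^ k) →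
        ∃ a : ℕ, (Subgroup.centralizer ({x} : Set G)).index = p ^ a) ∧
      (p = q → (Q : Subgroup G).Normal ∧
        ∃ N : Subgroup G, N.Normal ∧ N.IsComplement' (Q : Subgroup G)) ∧
      (p ≠ q → IsMulCommutative (Q : Subgroup G) ∧ (pCore p G ⊔ (Q : Subgroup G)).Normal ∧
        ∀ _h : (pPrimeCore q G).Normal, Group.IsSolvable (G ⧸ pPrimeCore q G)) := by
  by_cases hQ : IsMulCommutative (Q : Subgroup G)
  swap
  · obtain ⟨h1, h2, h3⟩ := nonabelian hB Q hQ
    exact ⟨q, hq.out, h3, fun _ => ⟨h1, h2⟩, fun h => absurd rfl h⟩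
  by_cases hcen : ∀ x : G, (∃ k : ℕ, orderOf x = q ^ k) →
      (Subgroup.centralizer ({x} : Set G)).index = 1
  · have hQz : ∀ x ∈ (Q : Subgroup G), ∀ g : G, g * x = x * g := by
      intro x hx g
      obtain ⟨k, hk⟩ := (IsPGroup.iff_orderOf.mp Q.isPGroup') ⟨x, hx⟩
      rw [← Subgroup.orderOf_coe] at hk
      exact Subgroup.mem_centralizer_singleton_iff.mp
        (Subgroup.index_eq_one.mp (hcen x ⟨k, hk⟩) ▸ Subgroup.mem_top g)
    have hQn : (Q : Subgroup G).Normal := ⟨fun x hx g => by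
      rw [hQz x hx g, mul_inv_cancel_right]; exact hx⟩
    haveI := hQn
    obtain ⟨N, hN⟩ := Subgroup.exists_right_complement'_of_coprime (N := (Q : Subgroup G))
      Q.card_coprime_index
    refine ⟨q, hq.out, fun x hx => ⟨0, by rw [hcen x hx, pow_zero]⟩,
      fun _ => ⟨hQn, N, ⟨fun n hn g => ?_⟩, hN.symm⟩, fun h => absurd rfl h⟩
    obtain ⟨⟨⟨a, ha⟩, ⟨m, hm⟩⟩, ham⟩ := hN.2 g
    simp only at ham
    rw [← ham, show a * m * n * (a * m)⁻¹ = a * (m * n * m⁻¹) * a⁻¹ by group, ← hQz a ha,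
      mul_inv_cancel_right]
    exact mul_mem (mul_mem hm hn) (inv_mem hm)
  push Not at hcen
  obtain ⟨x₀, hx₀, hx₀i⟩ := hcen
  obtain ⟨p, a₀, hp, hpa⟩ := hB x₀ hx₀
  have ha₀ : a₀ ≠ 0 := fun h => hx₀i (by rw [hpa, h, pow_zero])
  have hpq : p ≠ q := fun h => by
    subst h
    have := index_coprime_of_abelian hB Q hQ x₀ hx₀
    rw [hpa] at this
    exact (Nat.Prime.coprime_iff_not_dvd hp).mp this.symm (dvd_pow_self p ha₀)
  obtain ⟨g₀, hg₀⟩ := exists_qElem_sylow hB x₀ hx₀ Q
  have hall : ∀ x : G, (∃ k : ℕ, orderOf x = q ^ k) →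
      ∃ a : ℕ, (Subgroup.centralizer ({x} : Set G)).index = p ^ a := by
    intro x hx
    obtain ⟨r, a, hr, hra⟩ := hB x hx
    rcases eq_or_ne a 0 with rfl | ha
    · exact ⟨0, by rw [hra]; simp⟩
    obtain ⟨g, hg⟩ := exists_qElem_sylow hB x hx Q
    have := prime_unique hB Q hQ hg hg₀ hr hp (by rw [index_conj, hra]) ha
      (by rw [index_conj, hpa]) ha₀
    subst this
    exact ⟨a, hra⟩
  refine ⟨p, hp, hall, fun h => absurd h hpq,
    fun _ => ⟨hQ, ?_, fun _ => solvable_quotient hB Q hQ hp hall⟩⟩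
  haveI : Fact p.Prime := ⟨hp⟩
  haveI := Fitting.pCore_normal (G := G) p
  haveI := Fitting.pCore_normal (G := G ⧸ pCore p G) q
  have hmap : (Q : Subgroup G).map (QuotientGroup.mk' (pCore p G)) = pCore q (G ⧸ pCore p G) := by
    refine sylow_map_eq_pCore _ (QuotientGroup.mk'_surjective _) Q fun x hx => ?_
    obtain ⟨k, hk⟩ := (IsPGroup.iff_orderOf.mp Q.isPGroup') ⟨x, hx⟩
    rw [← Subgroup.orderOf_coe] at hk
    obtain ⟨a, ha⟩ := hall x ⟨k, hk⟩
    exact mk_mem_pCore ⟨k, hk⟩ ha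
  have h := Subgroup.comap_map_eq (QuotientGroup.mk' (pCore p G)) (Q : Subgroup G)
  rw [hmap, QuotientGroup.ker_mk', sup_comm] at h
  rw [← h]
  infer_instance

end CfsgLib.QBaer
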